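import Cfsg.Agent.Lib.Fi22Cover.Space
import Cfsg.Agent.Lib.Fi22Local.Triples

/-!
The classes of involutions of the double cover of Fi22: lifts of one transposition (two classes), of two
(two classes) and of three (one class); their members in the 2^11 are read off from the vectors.
-/

set_option autoImplicit false
set_option maxRecDepth 100000

namespace Cfsg.Agent.Fi22Cover

open Cfsg.Agent.CosetCert
open Cfsg.Agent.CosetData
open Cfsg.Agent.FischerPresented
open Cfsg.Agent.FischerPresented.Out22 (hm tr)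

local notation "G₀" => Setup.G Fi22B.setup

/-- The class number of a vector. -/
noncomputable def code (a : ℕ) : ℕ := Nat.land (Nat.shiftRight codeN (4 * a)) 15

/-- The class number of the product with the central involution. -/
def flip : ℕ → ℕ
  | 0 => 7
  | 1 => 2
  | 2 => 1
  | 3 => 4
  | 4 => 3
  | 7 => 0
  | c => c

/-- The vector has its recorded description. -/
noncomputable def codeOK (a : ℕ) : Bool :=
  let w := Nat.shiftRight witN (16 * a)
  let i := w % 32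
  let j := w / 32 % 32
  let k := w / 1024 % 32
  Nat.beq (code (Nat.xor a 1024)) (flip (code a)) &&
  match code a with
  | 0 => Nat.beq a 1024
  | 1 => Nat.blt i 22 && Nat.beq a (vec i)
  | 2 => Nat.blt i 22 && Nat.beq (Nat.xor a 1024) (vec i)
  | 3 => Nat.blt i j && Nat.blt j 22 && Nat.beq a (Nat.xor (vec i) (vec j))
  | 4 => Nat.blt i j && Nat.blt j 22 && Nat.beq (Nat.xor a 1024) (Nat.xor (vec i) (vec j))
  | 5 => Nat.blt i j && Nat.blt j k && Nat.blt k 22 && Nat.beq a (Nat.xor (Nat.xor (vec i) (vec j)) (vec k))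
  | 7 => Nat.beq a 0
  | _ => false

theorem code_ok : ((List.range 2048).all codeOK) = true := by decide +kernel

theorem qs_inj : ((List.range 22).all fun i => (List.range 22).all fun j =>
    Nat.beq i j || !(Nat.beq (qs.getD i 0 % 3510) (qs.getD j 0 % 3510))) = true := by decide +kernel

theorem qp_ne {i j : ℕ} (hi : i < 22) (hj : j < 22) (h : i ≠ j) : qp i ≠ qp j := fun e => by
  have hh := List.all_eq_true.1 (List.all_eq_true.1 qs_inj i (List.mem_range.2 hi)) j (List.mem_range.2 hj)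
  simp only [Bool.or_eq_true, Nat.beq_eq, Bool.not_eq_true'] at hh
  exact Nat.ne_of_beq_eq_false (hh.resolve_left h) (congrArg Fin.val e)

variable {E : Type} [Group E] (K : Cov E)

/-- A lift of a transposition. -/
def Sing (x : E) : Prop := ∃ p, x = K.T p

/-- A lift of two commuting transpositions. -/
def Pair (x : E) : Prop := ∃ p q, p ≠ q ∧ Commute (tr p) (tr q) ∧ x = K.T p * K.T q

/-- A lift of three commuting transpositions. -/
def Trip (x : E) : Prop := ∃ p q r, p ≠ q ∧ p ≠ r ∧ q ≠ r ∧ Commute (tr p) (tr q) ∧ Commute (tr p) (tr r) ∧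
  Commute (tr q) (tr r) ∧ x = K.T p * K.T q * K.T r

/-- The classes by number. -/
def Cls : ℕ → E → Prop
  | 0, x => x = K.d
  | 1, x => Sing K x
  | 2, x => Sing K (x * K.d)
  | 3, x => Pair K x
  | 4, x => Pair K (x * K.d)
  | 5, x => Trip K x
  | _, x => x = 1

theorem code_spec {a : ℕ} (ha : a < 2048) :
    Cls K (code a) (va K a) ∧ code (a ^^^ 1024) = flip (code a) ∧ (code a ≤ 5 ∨ a = 0) := by
  have h := List.all_eq_true.1 code_ok a (List.mem_range.2 ha)
  rw [codeOK, Bool.and_eq_true, Nat.beq_eq] at h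
  obtain ⟨hf, h⟩ := h
  have hx : ∀ b v, Nat.xor b 1024 = v → va K b * K.d = va K v := fun b v e => by
    rw [← va_top_mul]; exact congrArg (va K) e
  generalize Nat.shiftRight witN (16 * a) / 1024 % 32 = k at h
  generalize Nat.shiftRight witN (16 * a) / 32 % 32 = j at h
  generalize Nat.shiftRight witN (16 * a) % 32 = i at h
  refine ⟨?_, hf, ?_⟩
  · generalize hc : code a = c at h ⊢
    split at h <;> simp only [Bool.and_eq_true, Nat.blt_eq, Nat.beq_eq, Bool.false_eq_true] at h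
    · show va K a = K.d
      rw [h, va_top]
    · exact ⟨qp i, by rw [T_eq K h.1, ← h.2]⟩
    · exact ⟨qp i, by rw [T_eq K h.1, hx _ _ h.2]⟩
    · obtain ⟨⟨hij, hj⟩, e⟩ := h
      refine ⟨qp i, qp j, qp_ne (by omega) hj (by omega), tr_qp_comm (by omega) hj, ?_⟩
      rw [T_eq K (by omega), T_eq K hj, ← va_xor]
      exact congrArg (va K) e
    · obtain ⟨⟨hij, hj⟩, e⟩ := h
      refine ⟨qp i, qp j, qp_ne (by omega) hj (by omega), tr_qp_comm (by omega) hj, ?_⟩
      rw [T_eq K (by omega), T_eq K hj, ← va_xor, hx _ _ e]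
      rfl
    · obtain ⟨⟨⟨hij, hjk⟩, hk⟩, e⟩ := h
      refine ⟨qp i, qp j, qp k, qp_ne (by omega) (by omega) (by omega), qp_ne (by omega) hk (by omega),
        qp_ne (by omega) hk (by omega), tr_qp_comm (by omega) (by omega), tr_qp_comm (by omega) hk,
        tr_qp_comm (by omega) hk, ?_⟩
      rw [T_eq K (by omega), T_eq K (by omega), T_eq K hk, ← va_xor, ← va_xor]
      exact congrArg (va K) e
    · show va K a = 1
      rw [h, va_zero]
  · generalize hc : code a = c at h ⊢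
    split at h <;> simp only [Bool.and_eq_true, Nat.blt_eq, Nat.beq_eq, Bool.false_eq_true] at h
    all_goals first | exact Or.inr h | exact Or.inl (by norm_num)

theorem exists_code : ∀ c ≤ 5, ∃ a, a < 2048 ∧ code a = c := by
  have h : ((List.range 6).all fun c => (List.range 2048).any fun a => Nat.beq (code a) c) = true := by
    decide +kernel
  intro c hc
  have := List.all_eq_true.1 h c (List.mem_range.2 (by omega))
  simpa [List.any_eq_true] using this

theorem Sing.conj {x : E} (h : Sing K x) (e : E) : Sing K (e * x * e⁻¹) := by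
  obtain ⟨p, rfl⟩ := h
  exact ⟨_, (K.conj e p).symm⟩

theorem move_commute (e : E) {p q : Fin 3510} (h : Commute (tr p) (tr q)) :
    Commute (tr (hm (K.σ e) p)) (tr (hm (K.σ e) q)) := by
  rw [Out22.tr_hom, Out22.tr_hom]
  exact h.map (MulAut.conj (K.σ e)).toMonoidHom

theorem Pair.conj {x : E} (h : Pair K x) (e : E) : Pair K (e * x * e⁻¹) := by
  obtain ⟨p, q, hpq, hc, rfl⟩ := h
  refine ⟨hm (K.σ e) p, hm (K.σ e) q, fun h => hpq ((hm (K.σ e)).injective h), move_commute K e hc, ?_⟩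
  rw [K.conj, K.conj]; group

theorem Trip.conj {x : E} (h : Trip K x) (e : E) : Trip K (e * x * e⁻¹) := by
  obtain ⟨p, q, r, hpq, hpr, hqr, c1, c2, c3, rfl⟩ := h
  refine ⟨hm (K.σ e) p, hm (K.σ e) q, hm (K.σ e) r, fun h => hpq ((hm (K.σ e)).injective h),
    fun h => hpr ((hm (K.σ e)).injective h), fun h => hqr ((hm (K.σ e)).injective h),
    move_commute K e c1, move_commute K e c2, move_commute K e c3, ?_⟩
  rw [K.conj, K.conj, K.conj]; group

theorem conj_mul_d (e x : E) : e * x * e⁻¹ * K.d = e * (x * K.d) * e⁻¹ := by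
  rw [mul_assoc, ← (K.central e⁻¹).eq]; group

theorem Cls.conj {c : ℕ} {x : E} (h : Cls K c x) (e : E) : Cls K c (e * x * e⁻¹) := by
  unfold Cls at h ⊢
  split at h
  · rw [h, ← (K.central e).eq, mul_inv_cancel_right]
  · exact h.conj K e
  · rw [conj_mul_d]; exact h.conj K e
  · exact h.conj K e
  · rw [conj_mul_d]; exact h.conj K e
  · exact h.conj K e
  · rw [h]; group

theorem tapp_of_commute {p q : Fin 3510} (h : Commute (tr p) (tr q)) : Fi22Local.tapp p q = q :=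
  (Fi22Local.Triple.commute_iff p.2 q.2).1 (by rwa [Fi22Local.trN_eq p.2, Fi22Local.trN_eq q.2])

theorem hm_of_apt {g : G₀} {a : ℕ} (ha : a < 3510) {p : Fin 3510} (h : Fi22Local.apt g a = p) :
    hm g ⟨a, ha⟩ = p := Fin.ext (by rw [← Fi22Local.apt_of_lt g ha, h])

theorem exists_move₁ (p p' : Fin 3510) : ∃ e : E, hm (K.σ e) p = p' := by
  obtain ⟨g, hg⟩ := Out22.exists_hom_zero p
  obtain ⟨g', hg'⟩ := Out22.exists_hom_zero p'
  obtain ⟨e, he⟩ := K.surj (g' * g⁻¹)
  refine ⟨e, ?_⟩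
  rw [he, Out22.hom_mul_apply, ← hg, ← Out22.hom_mul_apply g⁻¹, inv_mul_cancel, map_one,
    Equiv.Perm.one_apply, hg']

theorem exists_move₂ {p q p' q' : Fin 3510} (h : p ≠ q) (hc : Commute (tr p) (tr q)) (h' : p' ≠ q')
    (hc' : Commute (tr p') (tr q')) : ∃ e : E, hm (K.σ e) p = p' ∧ hm (K.σ e) q = q' := by
  obtain ⟨g, g0, g7⟩ := Fi22Local.Triple.exists_pair p.2 q.2 (fun e => h (Fin.ext e)) (tapp_of_commute hc)
  obtain ⟨g', g0', g7'⟩ := Fi22Local.Triple.exists_pair p'.2 q'.2 (fun e => h' (Fin.ext e)) (tapp_of_commute hc')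
  obtain ⟨e, he⟩ := K.surj (g' * g⁻¹)
  have key : ∀ {a : ℕ} (ha : a < 3510) {u u' : Fin 3510}, Fi22Local.apt g a = u → Fi22Local.apt g' a = u' →
      hm (K.σ e) u = u' := fun {a} ha {u u'} hu hu' => by
    rw [he, Out22.hom_mul_apply, ← hm_of_apt ha hu, ← Out22.hom_mul_apply g⁻¹, inv_mul_cancel, map_one,
      Equiv.Perm.one_apply, hm_of_apt ha hu']
  exact ⟨e, key (by norm_num) g0 g0', key (by norm_num) g7 g7'⟩

theorem exists_move₃ {p q r p' q' r' : Fin 3510} (h1 : p ≠ q) (h2 : p ≠ r) (h3 : q ≠ r)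
    (c1 : Commute (tr p) (tr q)) (c2 : Commute (tr p) (tr r)) (c3 : Commute (tr q) (tr r))
    (h1' : p' ≠ q') (h2' : p' ≠ r') (h3' : q' ≠ r')
    (c1' : Commute (tr p') (tr q')) (c2' : Commute (tr p') (tr r')) (c3' : Commute (tr q') (tr r')) :
    ∃ e : E, hm (K.σ e) p = p' ∧ hm (K.σ e) q = q' ∧ hm (K.σ e) r = r' := by
  obtain ⟨g, g0, g7, g50⟩ := Fi22Local.Triple.exists_triple p.2 q.2 r.2 (fun e => h1 (Fin.ext e))
    (fun e => h2 (Fin.ext e)) (fun e => h3 (Fin.ext e)) (tapp_of_commute c1) (tapp_of_commute c2)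
    (tapp_of_commute c3)
  obtain ⟨g', g0', g7', g50'⟩ := Fi22Local.Triple.exists_triple p'.2 q'.2 r'.2 (fun e => h1' (Fin.ext e))
    (fun e => h2' (Fin.ext e)) (fun e => h3' (Fin.ext e)) (tapp_of_commute c1') (tapp_of_commute c2')
    (tapp_of_commute c3')
  obtain ⟨e, he⟩ := K.surj (g' * g⁻¹)
  have key : ∀ {a : ℕ} (ha : a < 3510) {u u' : Fin 3510}, Fi22Local.apt g a = u → Fi22Local.apt g' a = u' →
      hm (K.σ e) u = u' := fun {a} ha {u u'} hu hu' => by
    rw [he, Out22.hom_mul_apply, ← hm_of_apt ha hu, ← Out22.hom_mul_apply g⁻¹, inv_mul_cancel, map_one,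
      Equiv.Perm.one_apply, hm_of_apt ha hu']
  exact ⟨e, key (by norm_num) g0 g0', key (by norm_num) g7 g7', key (by norm_num) g50 g50'⟩

theorem mul_d_cancel (x : E) : x * K.d * K.d = x := by rw [mul_assoc, K.d_sq, mul_one]

theorem Sing.isConj {x y : E} (hx : Sing K x) (hy : Sing K y) : ∃ e : E, e * x * e⁻¹ = y := by
  obtain ⟨p, rfl⟩ := hx
  obtain ⟨p', rfl⟩ := hy
  obtain ⟨e, he⟩ := exists_move₁ K p p'
  exact ⟨e, by rw [← K.conj, he]⟩

theorem Pair.isConj {x y : E} (hx : Pair K x) (hy : Pair K y) : ∃ e : E, e * x * e⁻¹ = y := by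
  obtain ⟨p, q, hpq, hc, rfl⟩ := hx
  obtain ⟨p', q', hpq', hc', rfl⟩ := hy
  obtain ⟨e, h1, h2⟩ := exists_move₂ K hpq hc hpq' hc'
  exact ⟨e, by rw [← h1, ← h2, K.conj, K.conj]; group⟩

theorem Trip.isConj {x y : E} (hx : Trip K x) (hy : Trip K y) : ∃ e : E, e * x * e⁻¹ = y := by
  obtain ⟨p, q, r, n1, n2, n3, c1, c2, c3, rfl⟩ := hx
  obtain ⟨p', q', r', n1', n2', n3', c1', c2', c3', rfl⟩ := hy
  obtain ⟨e, h1, h2, h3⟩ := exists_move₃ K n1 n2 n3 c1 c2 c3 n1' n2' n3' c1' c2' c3'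
  exact ⟨e, by rw [← h1, ← h2, ← h3, K.conj, K.conj, K.conj]; group⟩

theorem Cls.isConj {c : ℕ} {x y : E} (hx : Cls K c x) (hy : Cls K c y) : ∃ e : E, e * x * e⁻¹ = y := by
  have hd : ∀ {x y : E}, (∃ e : E, e * (x * K.d) * e⁻¹ = y * K.d) → ∃ e : E, e * x * e⁻¹ = y := by
    rintro x y ⟨e, he⟩
    rw [← conj_mul_d] at he
    exact ⟨e, mul_right_cancel he⟩
  match c, hx, hy with
  | 0, hx, hy => exact ⟨1, by rw [show x = K.d from hx, show y = K.d from hy]; group⟩
  | 1, hx, hy => exact Sing.isConj K hx hy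
  | 2, hx, hy => exact hd (Sing.isConj K hx hy)
  | 3, hx, hy => exact Pair.isConj K hx hy
  | 4, hx, hy => exact hd (Pair.isConj K hx hy)
  | 5, hx, hy => exact Trip.isConj K hx hy
  | _ + 6, hx, hy => exact ⟨1, by rw [show x = 1 from hx, show y = 1 from hy]; group⟩

/-- The image of a product of lifts is a factor list of the recorded length. -/
def Lev (m : ℕ) (g : G₀) : Prop := ∃ l, Fi22Two.IsFactors l ∧ l.length = m ∧ l.prod = g

theorem lev_of_cls {c : ℕ} {x : E} (h1 : 1 ≤ c) (h5 : c ≤ 5) (h : Cls K c x) :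
    Lev ((c + 1) / 2) (K.σ x) := by
  have hd : ∀ y : E, K.σ (y * K.d) = K.σ y := fun y => by rw [map_mul, K.map_d, mul_one]
  have hne : ∀ {p q : Fin 3510}, p ≠ q → tr p ≠ tr q := fun h e => h (Out22.tr_injective e)
  have s1 : ∀ {y : E}, Sing K y → Lev 1 (K.σ y) := by
    rintro y ⟨p, rfl⟩
    exact ⟨[tr p], ⟨by simp, by simp [Out22.tr_mem], by simp⟩, rfl, by simp [K.mapT]⟩
  have s2 : ∀ {y : E}, Pair K y → Lev 2 (K.σ y) := by
    rintro y ⟨p, q, n, c, rfl⟩
    exact ⟨[tr p, tr q], ⟨by simp [hne n], by simp [Out22.tr_mem], by simp [c, c.symm]⟩, rfl,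
      by simp [K.mapT]⟩
  interval_cases c
  · exact s1 h
  · exact hd x ▸ s1 h
  · exact s2 h
  · exact hd x ▸ s2 h
  · obtain ⟨p, q, r, n1, n2, n3, c1, c2, c3, rfl⟩ := h
    exact ⟨[tr p, tr q, tr r], ⟨by simp [hne n1, hne n2, hne n3], by simp [Out22.tr_mem],
      by simp [c1, c1.symm, c2, c2.symm, c3, c3.symm]⟩, rfl, by simp [K.mapT, mul_assoc]⟩

theorem lev_ne_one {m : ℕ} {g : G₀} (h1 : 1 ≤ m) (h3 : m ≤ 3) (h : Lev m g) : g ≠ 1 := by
  obtain ⟨l, hl, hm', rfl⟩ := h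
  intro e
  have hc := Fi22Two.conj_std l hl (hm' ▸ h1) (hm' ▸ h3)
  rw [e, isConj_one_left] at hc
  have ho := Fi22Two.std_order (m := l.length) (hm' ▸ h1) (hm' ▸ h3)
  rw [hc, orderOf_one] at ho
  norm_num at ho

theorem Sing.not_mul_d {x : E} (h : Sing K x) (h' : Sing K (x * K.d)) : False := by
  obtain ⟨p, rfl⟩ := h
  obtain ⟨q, e⟩ := h'
  exact K.T_ne_Td q p e.symm

theorem Pair.not_mul_d {x : E} (h : Pair K x) (h' : Pair K (x * K.d)) : False := by
  obtain ⟨p, q, hpq, hc, rfl⟩ := h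
  obtain ⟨a, b, hab, hc', e⟩ := h'
  have him : Fi22Local.trN (p : ℕ) * Fi22Local.trN (q : ℕ) = Fi22Local.trN (a : ℕ) * Fi22Local.trN (b : ℕ) := by
    rw [Fi22Local.trN_eq p.2, Fi22Local.trN_eq q.2, Fi22Local.trN_eq a.2, Fi22Local.trN_eq b.2]
    have := congrArg K.σ e
    simpa [K.mapT, K.map_d] using this
  have hsame : K.T p * K.T q = K.T a * K.T b := by
    rcases Fi22Local.Triple.pair_unique a.2 b.2 p.2 q.2 (fun e => hab (Fin.ext e)) (fun e => hpq (Fin.ext e))
      (tapp_of_commute hc') (tapp_of_commute hc) him with ⟨e1, e2⟩ | ⟨e1, e2⟩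
    · rw [Fin.ext e1, Fin.ext e2]
    · rw [Fin.ext e1, Fin.ext e2, (K.commute hc').eq]
  rw [hsame] at e
  exact K.d_ne (mul_left_cancel (e.trans (mul_one _).symm))

/-- The classes are disjoint. -/
theorem Cls.unique {c c' : ℕ} {x : E} (h5 : c ≤ 5) (h5' : c' ≤ 5) (h : Cls K c x) (h' : Cls K c' x) :
    c = c' := by
  by_cases h0 : c = 0
  · subst h0
    by_contra hne
    exact lev_ne_one (by omega) (by omega) (lev_of_cls K (by omega) h5' h')
      (by rw [show x = K.d from h, K.map_d])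
  by_cases h0' : c' = 0
  · subst h0'
    exact absurd (by rw [show x = K.d from h', K.map_d]) (lev_ne_one (by omega) (by omega)
      (lev_of_cls K (by omega) h5 h))
  obtain ⟨l, hl, hm, e⟩ := lev_of_cls K (by omega) h5 h
  obtain ⟨l', hl', hm', e'⟩ := lev_of_cls K (by omega) h5' h'
  have := Fi22Two.length_unique hl hl' (by omega) (by omega) (by omega) (by omega) (e.trans e'.symm)
  by_contra hne
  have : (c = 1 ∧ c' = 2) ∨ (c = 2 ∧ c' = 1) ∨ (c = 3 ∧ c' = 4) ∨ (c = 4 ∧ c' = 3) := by omega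
  rcases this with ⟨rfl, rfl⟩ | ⟨rfl, rfl⟩ | ⟨rfl, rfl⟩ | ⟨rfl, rfl⟩
  · exact Sing.not_mul_d K h h'
  · exact Sing.not_mul_d K h' h
  · exact Pair.not_mul_d K h h'
  · exact Pair.not_mul_d K h' h

theorem cls_d (c : ℕ) (h1 : 1 ≤ c) (h5 : c ≤ 5) {x : E} (h : Cls K c x) : Cls K (flip c) (x * K.d) := by
  interval_cases c
  · show Sing K (x * K.d * K.d); rw [mul_d_cancel]; exact h
  · exact h
  · show Pair K (x * K.d * K.d); rw [mul_d_cancel]; exact h
  · exact h
  · obtain ⟨a, ha, hca⟩ := exists_code 5 le_rfl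
    obtain ⟨h5a, hfl, -⟩ := code_spec K ha
    rw [hca] at h5a hfl
    obtain ⟨e, he⟩ := Cls.isConj K h5a h
    have h' := (code_spec K (a := a ^^^ 1024) (Nat.xor_lt_two_pow (n := 11) ha (by norm_num))).1
    rw [hfl, va_top_mul] at h'
    rw [← he, conj_mul_d]
    exact h'.conj K e

/-- Every involution off the centre lies in a class. -/
theorem exists_cls {x : E} (hsq : x * x = 1) (h1 : x ≠ 1) (hd : x ≠ K.d) :
    ∃ c, 1 ≤ c ∧ c ≤ 5 ∧ Cls K c x := by
  have hσ : K.σ x ≠ 1 := fun e => (K.ker_cases x e).elim h1 hd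
  obtain ⟨l, hl1, hl3, ⟨hnd, hD, hcm⟩, e⟩ := Fi22Two.exists_factors (K.σ x)
    (orderOf_eq_prime (by rw [sq, ← map_mul, hsq, map_one]) hσ)
  have fin : ∀ {y : E} {c : ℕ}, 1 ≤ c → c ≤ 5 → K.σ x = K.σ y → Cls K c y →
      ∃ c, 1 ≤ c ∧ c ≤ 5 ∧ Cls K c x := by
    intro y c h1c h5c hxy hy
    rcases K.eq_or hxy with rfl | rfl
    · exact ⟨c, h1c, h5c, hy⟩
    · refine ⟨flip c, ?_, ?_, cls_d K c h1c h5c hy⟩ <;> interval_cases c <;> simp [flip]
  match l, hl1, hl3, hnd, hD, hcm, e with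
  | [a], _, _, _, hD, _, e =>
    obtain ⟨p, rfl⟩ := Out22.exists_tr (hD a (by simp))
    exact fin (y := K.T p) (c := 1) le_rfl (by norm_num) (by rw [K.mapT, ← e]; simp) ⟨p, rfl⟩
  | [a, b], _, _, hnd, hD, hcm, e =>
    obtain ⟨p, rfl⟩ := Out22.exists_tr (hD a (by simp))
    obtain ⟨q, rfl⟩ := Out22.exists_tr (hD b (by simp))
    exact fin (y := K.T p * K.T q) (c := 3) (by norm_num) (by norm_num) (by rw [map_mul, K.mapT, K.mapT, ← e]; simp)
      ⟨p, q, fun h => by simp [h] at hnd, hcm _ (by simp) _ (by simp), rfl⟩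
  | [a, b, c], _, _, hnd, hD, hcm, e =>
    obtain ⟨p, rfl⟩ := Out22.exists_tr (hD a (by simp))
    obtain ⟨q, rfl⟩ := Out22.exists_tr (hD b (by simp))
    obtain ⟨r, rfl⟩ := Out22.exists_tr (hD c (by simp))
    exact fin (y := K.T p * K.T q * K.T r) (c := 5) (by norm_num) le_rfl
      (by rw [map_mul, map_mul, K.mapT, K.mapT, K.mapT, ← e]; simp [mul_assoc])
      ⟨p, q, r, fun h => by simp [h] at hnd, fun h => by simp [h] at hnd, fun h => by simp [h] at hnd,
        hcm _ (by simp) _ (by simp), hcm _ (by simp) _ (by simp), hcm _ (by simp) _ (by simp), rfl⟩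
  | [], h, _, _, _, _, _ => simp at h
  | _ :: _ :: _ :: _ :: _, _, h, _, _, _, _ => (simp at h; omega)

theorem cls_iff_code {a c : ℕ} (ha : a < 2048) (h0 : a ≠ 0) (hc : c ≤ 5) :
    Cls K c (va K a) ↔ code a = c := by
  obtain ⟨h, -, h5⟩ := code_spec K ha
  exact ⟨fun h' => Cls.unique K (h5.resolve_right h0) hc h h', fun e => e ▸ h⟩

end Cfsg.Agent.Fi22Cover
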