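import Cfsg.Agent.Lib.Fi22Cover.Classes
import Mathlib.GroupTheory.Perm.Cycle.Type

/-!
An involution whose centraliser is a perfect double cover of Fi22, commuting with another of its conjugates:
the 2^11 holds exactly 23 conjugates, permuted transitively by its normaliser.
-/

set_option autoImplicit false
set_option maxRecDepth 100000

namespace Cfsg.Agent.Fi22Cover

open Cfsg.Agent.CosetCert
open Cfsg.Agent.CosetData
open Cfsg.Agent.FischerPresented
open Cfsg.Agent.FischerPresented.Out22 (hm tr)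

local notation "G₀" => Setup.G Fi22B.setup

/-! ### Elementary subgroups of the cover -/

section Elem

variable {E : Type} [Group E] (K : Cov E)

theorem card_ker : Nat.card K.σ.ker = 2 := by
  let f : Bool → K.σ.ker := fun b => ⟨bif b then K.d else 1, by cases b <;> simp [K.map_d]⟩
  have hf : Function.Bijective f := by
    constructor
    · intro a b h
      have h' := congrArg Subtype.val h
      cases a <;> cases b <;> simp [f, K.d_ne, K.d_ne.symm] at h' ⊢
    · rintro ⟨x, hx⟩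
      rcases K.ker_cases x hx with rfl | rfl
      · exact ⟨false, rfl⟩
      · exact ⟨true, rfl⟩
  rw [← Nat.card_eq_of_bijective f hf]; simp

theorem card_comap (H : Subgroup G₀) : Nat.card (H.comap K.σ) = 2 * Nat.card H := by
  let f := K.σ.comp (H.comap K.σ).subtype
  let f' : H.comap K.σ →* H := f.codRestrict H fun x => x.2
  have hs : Function.Surjective f' := fun y => by
    obtain ⟨x, hx⟩ := K.surj y
    exact ⟨⟨x, by rw [Subgroup.mem_comap, hx]; exact y.2⟩, Subtype.ext hx⟩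
  have hk : Nat.card f'.ker = 2 := by
    rw [← card_ker K]
    refine Nat.card_congr ⟨fun x => ⟨(x : H.comap K.σ), congrArg Subtype.val x.2⟩,
      fun x => ⟨⟨x, by rw [Subgroup.mem_comap, MonoidHom.mem_ker.1 x.2]; exact one_mem H⟩,
        Subtype.ext (MonoidHom.mem_ker.1 x.2)⟩, fun _ => rfl, fun _ => rfl⟩
  rw [Subgroup.card_eq_card_quotient_mul_card_subgroup f'.ker,
    Nat.card_congr (QuotientGroup.quotientKerEquivOfSurjective f' hs).toEquiv, hk, mul_comm]

theorem elementary_map {B : Subgroup E} (h : Cfsg.IsElementaryAbelian 2 B) :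
    Cfsg.IsElementaryAbelian 2 (B.map K.σ) := by
  refine ⟨⟨⟨fun x y => ?_⟩⟩, ?_⟩
  · obtain ⟨a, ha, ea⟩ := x.2
    obtain ⟨b, hb, eb⟩ := y.2
    refine Subtype.ext ?_
    rw [Subgroup.coe_mul, Subgroup.coe_mul, ← ea, ← eb, ← map_mul, ← map_mul]
    exact congrArg K.σ (congrArg Subtype.val (h.1.is_comm.comm ⟨a, ha⟩ ⟨b, hb⟩))
  · rintro _ ⟨a, ha, rfl⟩
    rw [← map_pow, h.2 a ha, map_one]

/-- Elementary subgroups inside a 2-subgroup. -/
theorem elem_bound {S : Subgroup E} (hS : IsPGroup 2 S) :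
    ∃ g : G₀, ∀ B ≤ S, Cfsg.IsElementaryAbelian 2 B →
      Nat.card B ≤ 2 ^ 11 ∧ (Nat.card B = 2 ^ 11 → B = (Fi22Two.A0.map (MulAut.conj g).toMonoidHom).comap K.σ) := by
  have := Fi22.order_facts.1
  obtain ⟨T, hT⟩ := (hS.map K.σ).exists_le_sylow
  obtain ⟨g, hg⟩ := Fi22Two.sylow_conj T
  refine ⟨g, fun B hB hel => ?_⟩
  set φ := (MulAut.conj g).toMonoidHom
  have hinj : Function.Injective φ := (MulAut.conj g).injective
  have hle : B.map K.σ ≤ Fi22Two.T0.map φ := hg ▸ (Subgroup.map_mono hB).trans hT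
  set B₁ := (B.map K.σ).comap φ
  have hBm : B₁.map φ = B.map K.σ := Subgroup.map_comap_eq_self (hle.trans fun x ⟨y, _, e⟩ => ⟨y, e⟩)
  have hel' := elementary_map K hel
  have hel₁ : Cfsg.IsElementaryAbelian 2 B₁ := by
    refine ⟨⟨⟨fun x y => Subtype.ext (hinj ?_)⟩⟩, fun x hx => hinj ?_⟩
    · rw [Subgroup.coe_mul, Subgroup.coe_mul, map_mul, map_mul]
      exact congrArg Subtype.val (hel'.1.is_comm.comm (⟨_, x.2⟩ : B.map K.σ) ⟨_, y.2⟩)
    · rw [map_pow, map_one]; exact hel'.2 _ hx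
  have hle₁ : B₁ ≤ Fi22Two.T0 := fun x hx => by
    obtain ⟨y, hy, e⟩ := hle hx
    exact hinj e ▸ hy
  obtain ⟨hb, hb'⟩ := Fi22Two.elementary_le hle₁ hel₁
  have hcard : Nat.card (B.map K.σ) = Nat.card B₁ := by
    rw [← hBm, Subgroup.card_map_of_injective hinj]
  have hBle : B ≤ (B.map K.σ).comap K.σ := Subgroup.le_comap_map _ _
  have : Finite ((B.map K.σ).comap K.σ) := Nat.finite_of_card_ne_zero (by
    rw [card_comap K]; exact mul_ne_zero two_ne_zero Nat.card_pos.ne')
  have hc := (Subgroup.card_le_of_le hBle).trans_eq (card_comap K _)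
  rw [hcard] at hc
  refine ⟨by omega, fun h11 => ?_⟩
  have e10 : Nat.card B₁ = 2 ^ 10 := by omega
  have he : B.map K.σ = Fi22Two.A0.map φ := by rw [← hBm, hb' e10]
  rw [← he]
  exact Subgroup.eq_of_le_of_card_ge hBle (by rw [card_comap K, hcard, e10, h11]; norm_num)

theorem elem_conj {B : Subgroup E} (hel : Cfsg.IsElementaryAbelian 2 B) (hc : Nat.card B = 2 ^ 11) :
    ∃ e : E, ∀ x : E, x ∈ B ↔ ∃ a < 2048, x = e * va K a * e⁻¹ := by
  obtain ⟨g, hg⟩ := elem_bound K (IsPGroup.of_card hc)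
  obtain ⟨e, rfl⟩ := K.surj g
  rw [(hg B le_rfl hel).2 hc]
  refine ⟨e, fun x => ?_⟩
  rw [Subgroup.mem_comap, Subgroup.mem_map]
  constructor
  · rintro ⟨y, hy, ey⟩
    have hm' : e⁻¹ * x * e ∈ A K := by
      show K.σ _ ∈ Fi22Two.A0
      rw [map_mul, map_mul, map_inv, ← ey]
      convert hy using 1
      show (K.σ e)⁻¹ * (K.σ e * y * (K.σ e)⁻¹) * K.σ e = y
      group
    obtain ⟨a, ha, ea⟩ := (mem_A K).1 hm'
    exact ⟨a, ha, by rw [← ea]; group⟩
  · rintro ⟨a, ha, rfl⟩
    exact ⟨K.σ (va K a), va_mem K ha, by rw [map_mul, map_mul, map_inv]; rfl⟩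

end Elem

/-! ### The possible unions of classes -/

/-- A representative of each class. -/
def rep (c : ℕ) : ℕ := [1024, 4, 1028, 12, 1036, 28].getD c 0

/-- The number of pairs of marked vectors with given sum. -/
noncomputable def cnt (S a : ℕ) : ℕ :=
  ((List.range 2048).filter fun z => Nat.testBit S (code z) && Nat.testBit S (code (Nat.xor z a))).length

/-- The surviving sets of classes. -/
noncomputable def cases (S : ℕ) : Bool :=
  [1, 3, 5, 15, 63].any (Nat.beq S) ||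
    (List.range 6).any fun c => Nat.testBit S c && !(Nat.beq (cnt S (rep c)) (cnt S 1024))

theorem rep_ok : ((List.range 6).all fun c => Nat.beq (code (rep c)) c && Nat.blt (rep c) 2048) = true := by
  decide +kernel

theorem cases_ok : ((List.range 32).all fun S => cases (2 * S + 1)) = true := by decide +kernel

theorem size_ok : (((List.range 2048).filter fun z => Nat.testBit 3 (code z)).length = 23 ∧
    ((List.range 2048).filter fun z => Nat.testBit 5 (code z)).length = 23) := by decide +kernel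

theorem code_size : ((List.range 8).all fun c =>
    Nat.beq ((List.range 2048).filter fun z => Nat.beq (code z) c).length
      ([1, 22, 22, 231, 231, 1540, 0, 1].getD c 0)) = true := by decide +kernel

theorem count_filter (p : ℕ → Bool) :
    ((List.range 2048).filter p).length = {z : ℕ | z < 2048 ∧ p z = true}.ncard := by
  have h : {z : ℕ | z < 2048 ∧ p z = true} = (((List.range 2048).filter p).toFinset : Set ℕ) := by
    ext z; simp
  rw [h, Set.ncard_coe_finset, List.toFinset_card_of_nodup (List.nodup_range.filter _)]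

theorem exists_bits (P : ℕ → Prop) (n : ℕ) : ∃ S < 2 ^ n, ∀ c < n, (Nat.testBit S c = true ↔ P c) := by
  induction n with
  | zero => exact ⟨0, by norm_num, fun c hc => absurd hc (Nat.not_lt_zero c)⟩
  | succ n ih =>
    obtain ⟨S, hS, h⟩ := ih
    by_cases hp : P n
    · refine ⟨2 ^ n + S, by rw [pow_succ]; omega, fun c hc => ?_⟩
      rcases Nat.lt_succ_iff_lt_or_eq.1 hc with hc | rfl
      · rw [Nat.testBit_two_pow_add_gt hc]; exact h c hc
      · rw [Nat.testBit_two_pow_add_eq, Nat.testBit_lt_two_pow hS]; simpa using hp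
    · refine ⟨S, by rw [pow_succ]; omega, fun c hc => ?_⟩
      rcases Nat.lt_succ_iff_lt_or_eq.1 hc with hc | rfl
      · exact h c hc
      · rw [Nat.testBit_lt_two_pow hS]; simpa using hp

/-! ### Fusion -/

variable {G : Type} [Group G]

local notation "cz(" d ")" => Subgroup.centralizer ({d} : Set _)

/-- The facts about elementary subgroups of order 2^11 in the centraliser. -/
def Concl (G : Type*) [Group G] (d : G) : Prop :=
  (∀ S : Subgroup G, S ≤ cz(d) → IsPGroup 2 S → ∀ B B' : Subgroup G, B ≤ S → B' ≤ S →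
      Cfsg.IsElementaryAbelian 2 B → Cfsg.IsElementaryAbelian 2 B' →
      Nat.card B ≤ 2 ^ 11 ∧ (Nat.card B = 2 ^ 11 → Nat.card B' = 2 ^ 11 → B = B')) ∧
  (∃ B : Subgroup G, B ≤ cz(d) ∧ Cfsg.IsElementaryAbelian 2 B ∧ Nat.card B = 2 ^ 11) ∧
  ∀ B : Subgroup G, B ≤ cz(d) → Cfsg.IsElementaryAbelian 2 B → Nat.card B = 2 ^ 11 →
    Set.ncard {x : G | x ∈ B ∧ IsConj d x} = 23 ∧
      ∀ x ∈ B, ∀ y ∈ B, IsConj d x → IsConj d y → ∃ n ∈ Subgroup.normalizer (B : Set G), n * x * n⁻¹ = y

variable {d : G} (K : Cov ↥(cz(d)))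

/-- The element of the group with given coordinates. -/
def vg (a : ℕ) : G := ((va K a : ↥(cz(d))) : G)

theorem vg_xor (a b : ℕ) : vg K (a ^^^ b) = vg K a * vg K b := by rw [vg, va_xor]; rfl

theorem vg_inj {a b : ℕ} (ha : a < 2048) (hb : b < 2048) (h : vg K a = vg K b) : a = b :=
  va_inj K ha hb (Subtype.ext h)

theorem vg_comm (a b : ℕ) : vg K a * vg K b = vg K b * vg K a := congrArg Subtype.val (va_comm K a b)

theorem vg_sq (a : ℕ) : vg K a * vg K a = 1 := congrArg Subtype.val (va_sq K a)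

theorem vg_zero : vg K 0 = 1 := congrArg Subtype.val (va_zero K)

theorem coe_conj (e x : ↥(cz(d))) : ((e * x * e⁻¹ : ↥(cz(d))) : G) = (e : G) * x * (e : G)⁻¹ := rfl

theorem mem_cz {g : G} : g ∈ cz(d) ↔ g * d = d * g := Subgroup.mem_centralizer_singleton_iff

/-- The subgroup in the group. -/
noncomputable def AG : Subgroup G := (A K).map (cz(d)).subtype

theorem mem_AG {x : G} : x ∈ AG K ↔ ∃ a < 2048, x = vg K a := by
  constructor
  · rintro ⟨y, hy, rfl⟩
    obtain ⟨a, ha, rfl⟩ := (mem_A K).1 hy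
    exact ⟨a, ha, rfl⟩
  · rintro ⟨a, ha, rfl⟩
    exact ⟨va K a, va_mem K ha, rfl⟩

theorem vg_top (hK : (K.d : G) = d) : vg K 1024 = d := by rw [vg, va_top, hK]

/-- An element carrying `d` into the subgroup can be chosen to normalise it. -/
theorem exists_norm (hK : (K.d : G) = d) {a : ℕ} (ha : a < 2048) (h : IsConj d (vg K a)) :
    ∃ n : G, n * d * n⁻¹ = vg K a ∧ ∀ z < 2048, ∃ w < 2048, n * vg K z * n⁻¹ = vg K w := by
  obtain ⟨g, hg⟩ := isConj_iff.1 h
  have hin : ∀ z, g⁻¹ * vg K z * g ∈ cz(d) := fun z => by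
    rw [mem_cz]
    have e : d = g⁻¹ * vg K a * g := by rw [← hg]; group
    have key : g⁻¹ * vg K z * g * (g⁻¹ * vg K a * g) = g⁻¹ * vg K a * g * (g⁻¹ * vg K z * g) := by
      calc g⁻¹ * vg K z * g * (g⁻¹ * vg K a * g) = g⁻¹ * (vg K z * vg K a) * g := by group
        _ = g⁻¹ * (vg K a * vg K z) * g := by rw [vg_comm]
        _ = _ := by group
    exact (congrArg (g⁻¹ * vg K z * g * ·) e).trans (key.trans (congrArg (· * (g⁻¹ * vg K z * g)) e.symm))
  let B : Subgroup ↥(cz(d)) := ((AG K).map (MulAut.conj g⁻¹).toMonoidHom).subgroupOf (cz(d))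
  have hB : ∀ x : ↥(cz(d)), x ∈ B ↔ ∃ z < 2048, (x : G) = g⁻¹ * vg K z * g := by
    intro x
    show (x : G) ∈ (AG K).map (MulAut.conj g⁻¹).toMonoidHom ↔ _
    rw [Subgroup.mem_map]
    constructor
    · rintro ⟨y, hy, e⟩
      obtain ⟨z, hz, rfl⟩ := (mem_AG K).1 hy
      exact ⟨z, hz, by rw [← e]; simp⟩
    · rintro ⟨z, hz, e⟩
      exact ⟨vg K z, (mem_AG K).2 ⟨z, hz, rfl⟩, by rw [e]; simp⟩
  have hel : Cfsg.IsElementaryAbelian 2 B := by
    refine ⟨⟨⟨fun x y => ?_⟩⟩, fun x hx => ?_⟩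
    · obtain ⟨z, -, ex⟩ := (hB _).1 x.2
      obtain ⟨z', -, ey⟩ := (hB _).1 y.2
      refine Subtype.ext (Subtype.ext ?_)
      show (x.1 : G) * (y.1 : G) = (y.1 : G) * (x.1 : G)
      rw [ex, ey]
      calc g⁻¹ * vg K z * g * (g⁻¹ * vg K z' * g) = g⁻¹ * (vg K z * vg K z') * g := by group
        _ = g⁻¹ * (vg K z' * vg K z) * g := by rw [vg_comm]
        _ = _ := by group
    · obtain ⟨z, -, ex⟩ := (hB _).1 hx
      refine Subtype.ext ?_
      rw [sq, Subgroup.coe_mul, ex, Subgroup.coe_one]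
      calc g⁻¹ * vg K z * g * (g⁻¹ * vg K z * g) = g⁻¹ * (vg K z * vg K z) * g := by group
        _ = 1 := by rw [vg_sq]; group
  have hcard : Nat.card B = 2 ^ 11 := by
    let φ : Fin (2 ^ 11) → B := fun z => ⟨⟨_, hin z⟩, (hB _).2 ⟨z, z.2, rfl⟩⟩
    have hφ : Function.Bijective φ := by
      refine ⟨fun p q e => Fin.ext (vg_inj K p.2 q.2 ?_), fun x => ?_⟩
      · have := congrArg (fun v : B => ((v : ↥(cz(d))) : G)) e
        exact mul_left_cancel (mul_right_cancel this)
      · obtain ⟨z, hz, e⟩ := (hB _).1 x.2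
        exact ⟨⟨z, hz⟩, Subtype.ext (Subtype.ext e.symm)⟩
    rw [← Nat.card_eq_of_bijective φ hφ, Nat.card_fin]
  obtain ⟨e, he⟩ := elem_conj K hel hcard
  refine ⟨g * (e : G), ?_, fun z hz => ?_⟩
  · rw [mul_inv_rev, ← hg]
    calc g * (e : G) * d * ((e : G)⁻¹ * g⁻¹) = g * ((e : G) * d) * (e : G)⁻¹ * g⁻¹ := by group
      _ = g * d * g⁻¹ := by rw [mem_cz.1 e.2]; group
  · obtain ⟨w, hw, ew⟩ := (hB _).1 ((he _).2 ⟨z, hz, rfl⟩)
    refine ⟨w, hw, ?_⟩
    calc g * (e : G) * vg K z * (g * (e : G))⁻¹ = g * ((e : G) * vg K z * (e : G)⁻¹) * g⁻¹ := by group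
      _ = vg K w := by
        rw [show (e : G) * vg K z * (e : G)⁻¹ = g⁻¹ * vg K w * g from ew]; group

theorem isConj_of_cls {c : ℕ} {x y : ↥(cz(d))} (hx : Cls K c x) (hy : Cls K c y) : IsConj (x : G) (y : G) := by
  obtain ⟨e, he⟩ := Cls.isConj K hx hy
  exact isConj_iff.2 ⟨(e : G), congrArg Subtype.val he⟩

/-- Only the triples are conjugate in the centraliser to their products with the centre. -/
theorem cls_five {y : ↥(cz(d))} (hsq : y * y = 1) (h1 : y ≠ 1) (hd : y ≠ K.d) {e : ↥(cz(d))}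
    (he : e * y * e⁻¹ = y * K.d) : Cls K 5 y := by
  obtain ⟨c, h1c, h5c, hc⟩ := exists_cls K hsq h1 hd
  have h' := cls_d K c h1c h5c hc
  rw [← he] at h'
  have := Cls.unique K h5c (by interval_cases c <;> simp [flip]) (hc.conj K e) h'
  have : c = 5 := by interval_cases c <;> simp [flip] at this ⊢
  exact this ▸ hc

/-- Two members whose images are the same triple orbit. -/
theorem orbit_three {α : Type*} [Finite α] (τ : Equiv.Perm α) (h3 : τ ^ 3 = 1) (hne : ∀ x, τ x ≠ x) :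
    3 ∣ Nat.card α := by
  classical
  have := Fintype.ofFinite α
  have : Fact (Nat.Prime 3) := ⟨Nat.prime_three⟩
  rw [Nat.card_eq_fintype_card]
  by_contra h
  obtain ⟨x, hx⟩ := Equiv.Perm.exists_fixed_point_of_prime (n := 1) h (σ := τ) (by rwa [pow_one])
  exact hne x hx

/-- The pairs in the subgroup conjugate to a given one. -/
def orbit2 (p : G × G) : Set (G × G) :=
  {q | q.1 ∈ AG K ∧ q.2 ∈ AG K ∧ ∃ g : G, g * p.1 * g⁻¹ = q.1 ∧ g * p.2 * g⁻¹ = q.2}

/-- Not every involution of the subgroup is a conjugate. -/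
theorem not_all [Finite G] (hK : (K.d : G) = d) (hall : ∀ a, a < 2048 → a ≠ 0 → IsConj d (vg K a)) : False := by
  classical
  choose! n hn hnA using fun a (h : a < 2048 ∧ a ≠ 0) => exists_norm K hK h.1 (hall a h.1 h.2)
  choose! w hw hnw using hnA
  let I : Set ℕ := {a | a < 2048 ∧ a ≠ 0}
  have hI : I.ncard = 2047 := by
    have : I = ((Finset.range 2048).erase 0 : Finset ℕ) := by ext a; simp [I, and_comm]
    rw [this, Set.ncard_coe_finset]; simp
  have hwinj : ∀ a ∈ I, ∀ z < 2048, ∀ z' < 2048, w a z = w a z' → z = z' := fun a ha z hz z' hz' e => by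
    have h1 := hnw a ha z hz
    rw [e, ← hnw a ha z' hz'] at h1
    exact vg_inj K hz hz' (mul_left_cancel (mul_right_cancel h1))
  have hwsurj : ∀ a ∈ I, ∀ b < 2048, ∃ z < 2048, w a z = b := fun a ha b hb => by
    have hinj : Function.Injective fun z : Fin 2048 => (⟨w a z, hw a ha z z.2⟩ : Fin 2048) :=
      fun z z' e => Fin.ext (hwinj a ha z z.2 z' z'.2 (congrArg Fin.val e))
    obtain ⟨z, hz⟩ := (Finite.injective_iff_surjective.1 hinj) ⟨b, hb⟩
    exact ⟨z, z.2, congrArg Fin.val hz⟩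
  let S : ℕ → Set ℕ := fun c => {z | z < 2048 ∧ code z = c}
  have hsize : ∀ c < 8, (S c).ncard = [1, 22, 22, 231, 231, 1540, 0, 1].getD c 0 := fun c hc => by
    have h := List.all_eq_true.1 code_size c (List.mem_range.2 hc)
    rw [Nat.beq_eq, count_filter] at h
    rw [← h]
    exact congrArg Set.ncard (Set.ext fun z => by simp [S])
  have horb : ∀ z, z < 2048 → (orbit2 K (d, vg K z)).ncard = 2047 * (S (code z)).ncard := by
    intro z hz
    have hbij : Set.BijOn (fun p : ℕ × ℕ => (vg K p.1, vg K (w p.1 p.2))) (I ×ˢ S (code z))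
        (orbit2 K (d, vg K z)) := by
      refine ⟨?_, ?_, ?_⟩
      · rintro ⟨a, b⟩ ⟨ha, hb, hc⟩
        refine ⟨(mem_AG K).2 ⟨a, ha.1, rfl⟩, (mem_AG K).2 ⟨_, hw a ha b hb, rfl⟩, ?_⟩
        obtain ⟨h1, -, -⟩ := code_spec K hz
        obtain ⟨h2, -, -⟩ := code_spec K hb
        rw [hc] at h2
        obtain ⟨e, he⟩ := Cls.isConj K h1 h2
        refine ⟨n a * (e : G), ?_, ?_⟩
        · show n a * (e : G) * d * (n a * (e : G))⁻¹ = vg K a
          rw [← hn a ha, show n a * (e : G) * d * (n a * (e : G))⁻¹ = n a * ((e : G) * d * (e : G)⁻¹) * (n a)⁻¹ by group,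
            mem_cz.1 e.2, mul_inv_cancel_right]
        · show n a * (e : G) * vg K z * (n a * (e : G))⁻¹ = vg K (w a b)
          rw [← hnw a ha b hb, show vg K b = (e : G) * vg K z * (e : G)⁻¹ from (congrArg Subtype.val he).symm]
          group
      · rintro ⟨a, b⟩ ⟨ha, hb, -⟩ ⟨a', b'⟩ ⟨ha', hb', -⟩ e
        have ea := vg_inj K ha.1 ha'.1 (congrArg Prod.fst e)
        subst ea
        have eb := vg_inj K (hw a ha b hb) (hw a ha b' hb') (congrArg Prod.snd e)
        exact Prod.ext rfl (hwinj a ha b hb b' hb' eb)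
      · rintro ⟨x, y⟩ ⟨hx, hy, g, e1, e2⟩
        obtain ⟨a, ha, rfl⟩ := (mem_AG K).1 hx
        obtain ⟨b', hb', rfl⟩ := (mem_AG K).1 hy
        have ha0 : a ≠ 0 := fun h => by
          subst h
          rw [vg_zero] at e1
          have : d = 1 := by
            calc d = g⁻¹ * (g * d * g⁻¹) * g := by group
              _ = 1 := by rw [show g * d * g⁻¹ = 1 from e1]; group
          exact K.d_ne (Subtype.ext (hK.trans this))
        obtain ⟨b, hb, rfl⟩ := hwsurj a ⟨ha, ha0⟩ b' hb'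
        refine ⟨(a, b), ⟨⟨ha, ha0⟩, hb, ?_⟩, rfl⟩
        have hcz : (n a)⁻¹ * g ∈ cz(d) := by
          rw [mem_cz]
          have h1 : g * d * g⁻¹ = n a * d * (n a)⁻¹ := e1.trans (hn a ⟨ha, ha0⟩).symm
          calc (n a)⁻¹ * g * d = (n a)⁻¹ * (g * d * g⁻¹) * g := by group
            _ = d * ((n a)⁻¹ * g) := by rw [h1]; group
        have hb2 : (⟨_, hcz⟩ : ↥(cz(d))) * va K z * (⟨_, hcz⟩ : ↥(cz(d)))⁻¹ = va K b := by
          refine Subtype.ext ?_
          show (n a)⁻¹ * g * vg K z * ((n a)⁻¹ * g)⁻¹ = vg K b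
          have h2 : g * vg K z * g⁻¹ = n a * vg K b * (n a)⁻¹ := e2.trans (hnw a ⟨ha, ha0⟩ b hb).symm
          calc (n a)⁻¹ * g * vg K z * ((n a)⁻¹ * g)⁻¹ = (n a)⁻¹ * (g * vg K z * g⁻¹) * n a := by group
            _ = vg K b := by rw [h2]; group
        obtain ⟨h1, -, h1'⟩ := code_spec K hz
        rcases h1' with h1' | rfl
        · have h2 := hb2 ▸ h1.conj K ⟨_, hcz⟩
          have hb0 : b ≠ 0 := fun h => by
            subst h
            rw [va_zero] at hb2
            have hz1 : va K z = 1 := by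
              have h := congrArg (fun t => (⟨_, hcz⟩ : ↥(cz(d)))⁻¹ * t * ⟨_, hcz⟩) hb2
              simpa [mul_assoc] using h
            have := va_eq_one K hz hz1
            subst this
            exact absurd h1' (by decide +kernel)
          exact (cls_iff_code K hb hb0 h1').1 h2
        · rw [va_zero] at hb2
          have : b = 0 := va_eq_one K hb (by rw [← hb2]; group)
          rw [this]
    rw [← hbij.image_eq, Set.ncard_image_of_injOn hbij.injOn, Set.ncard_prod, hI]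
  let P : Set (G × G) := {p | p.1 ∈ AG K ∧ p.2 ∈ AG K ∧ p.1 ≠ 1 ∧ (orbit2 K p).ncard = 2047 * 22}
  have hP : P.ncard = 2047 * 44 := by
    have hbij : Set.BijOn (fun p : ℕ × ℕ => (vg K p.1, vg K (w p.1 p.2))) (I ×ˢ (S 1 ∪ S 2)) P := by
      have horb' : ∀ a ∈ I, ∀ b, b < 2048 →
          (orbit2 K (vg K a, vg K (w a b))).ncard = 2047 * (S (code b)).ncard := fun a ha b hb => by
        rw [← horb b hb]
        refine congrArg Set.ncard (Set.ext fun q => ?_)
        refine and_congr_right' (and_congr_right' ⟨?_, ?_⟩)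
        · rintro ⟨g, e1, e2⟩
          refine ⟨g * n a, ?_, ?_⟩
          · rw [← e1, ← hn a ha]; group
          · rw [← e2, ← hnw a ha b hb]; group
        · rintro ⟨g, e1, e2⟩
          refine ⟨g * (n a)⁻¹, ?_, ?_⟩
          · rw [← e1, ← hn a ha]; group
          · rw [← e2, ← hnw a ha b hb]; group
      refine ⟨?_, ?_, ?_⟩
      · rintro ⟨a, b⟩ ⟨ha, hb⟩
        refine ⟨(mem_AG K).2 ⟨a, ha.1, rfl⟩, ?_, fun h => ha.2 (vg_inj K ha.1 (by norm_num) (h.trans (vg_zero K).symm)), ?_⟩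
        · rcases hb with ⟨hb, -⟩ | ⟨hb, -⟩ <;> exact (mem_AG K).2 ⟨_, hw a ha b hb, rfl⟩
        · rcases hb with ⟨hb, hc⟩ | ⟨hb, hc⟩ <;> rw [horb' a ha b hb, hc, hsize _ (by norm_num)] <;> rfl
      · rintro ⟨a, b⟩ ⟨ha, hb⟩ ⟨a', b'⟩ ⟨ha', hb'⟩ e
        have ea := vg_inj K ha.1 ha'.1 (congrArg Prod.fst e)
        subst ea
        have hbl : b < 2048 := hb.elim And.left And.left
        have hbl' : b' < 2048 := hb'.elim And.left And.left
        exact Prod.ext rfl (hwinj a ha b hbl b' hbl'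
          (vg_inj K (hw a ha b hbl) (hw a ha b' hbl') (congrArg Prod.snd e)))
      · rintro ⟨x, y⟩ ⟨hx, hy, hx1, hcard⟩
        obtain ⟨a, ha, rfl⟩ := (mem_AG K).1 hx
        obtain ⟨b', hb', rfl⟩ := (mem_AG K).1 hy
        have haI : a ∈ I := ⟨ha, fun h => hx1 (by show vg K a = 1; rw [h, vg_zero])⟩
        obtain ⟨b, hb, rfl⟩ := hwsurj a haI b' hb'
        refine ⟨(a, b), ⟨haI, ?_⟩, rfl⟩
        rw [horb' a haI b hb] at hcard
        obtain ⟨-, -, h5⟩ := code_spec K hb
        have hc8 : code b < 8 := by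
          rcases h5 with h5 | rfl
          · omega
          · decide +kernel
        rw [hsize _ hc8] at hcard
        have : code b = 1 ∨ code b = 2 := by
          generalize code b = c at hcard hc8
          interval_cases c <;> simp at hcard ⊢
        exact this.imp (fun e => ⟨hb, e⟩) (fun e => ⟨hb, e⟩)
    rw [← hbij.image_eq, Set.ncard_image_of_injOn hbij.injOn, Set.ncard_prod, hI,
      Set.ncard_union_eq (Set.disjoint_left.2 fun z h h' => by simp [S, h.2] at h')
        ((Set.finite_lt_nat 2048).subset fun z h => h.1) ((Set.finite_lt_nat 2048).subset fun z h => h.1),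
      hsize 1 (by norm_num), hsize 2 (by norm_num)]
    rfl
  have hP1 : ∀ p ∈ P, p.2 ≠ 1 ∧ p.2 ≠ p.1 := by
    rintro ⟨x, y⟩ ⟨hx, hy, hx1, hcard⟩
    obtain ⟨a, ha, rfl⟩ := (mem_AG K).1 hx
    obtain ⟨b, hb, rfl⟩ := (mem_AG K).1 hy
    have haI : a ∈ I := ⟨ha, fun h => hx1 (by show vg K a = 1; rw [h, vg_zero])⟩
    obtain ⟨z, hz, rfl⟩ := hwsurj a haI b hb
    have hsame : ∀ v, (v = 0 ∨ v = 1024) → z ≠ v := by
      intro v hv e
      subst e
      have ho : (orbit2 K (d, vg K z)).ncard = 2047 * 1 := by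
        rw [horb z hz]
        rcases hv with rfl | rfl
        · rw [show code 0 = 7 by decide +kernel, hsize 7 (by norm_num)]; rfl
        · rw [show code 1024 = 0 by decide +kernel, hsize 0 (by norm_num)]; rfl
      have : orbit2 K (vg K a, vg K (w a z)) = orbit2 K (d, vg K z) := Set.ext fun q => by
        refine and_congr_right' (and_congr_right' ⟨?_, ?_⟩)
        · rintro ⟨g, e1, e2⟩
          refine ⟨g * n a, ?_, ?_⟩
          · rw [← e1, ← hn a haI]; group
          · rw [← e2, ← hnw a haI z hz]; group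
        · rintro ⟨g, e1, e2⟩
          refine ⟨g * (n a)⁻¹, ?_, ?_⟩
          · rw [← e1, ← hn a haI]; group
          · rw [← e2, ← hnw a haI z hz]; group
      rw [this, ho] at hcard
      norm_num at hcard
    refine ⟨fun e => hsame 0 (Or.inl rfl) ?_, fun e => hsame 1024 (Or.inr rfl) ?_⟩
    · refine vg_inj K hz (by norm_num) ?_
      have h := hnw a haI z hz
      rw [show vg K (w a z) = 1 from e, mul_inv_eq_one, mul_eq_left] at h
      rw [h, vg_zero]
    · refine vg_inj K hz (by norm_num) ?_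
      have h := hnw a haI z hz
      rw [show vg K (w a z) = vg K a from e, ← hn a haI] at h
      rw [vg_top K hK]
      exact mul_left_cancel (mul_right_cancel h)
  have hτmem : ∀ p ∈ P, ((p.2, p.1 * p.2) : G × G) ∈ P := by
    rintro ⟨x, y⟩ hp
    obtain ⟨hx, hy, hx1, hcard⟩ := hp
    refine ⟨hy, mul_mem hx hy, (hP1 (x, y) ⟨hx, hy, hx1, hcard⟩).1, ?_⟩
    rw [← hcard]
    have hcomm : ∀ {u v : G}, u ∈ AG K → v ∈ AG K → u * v = v * u ∧ u * u = 1 := fun hu hv => by
      obtain ⟨a, -, rfl⟩ := (mem_AG K).1 hu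
      obtain ⟨b, -, rfl⟩ := (mem_AG K).1 hv
      exact ⟨vg_comm K a b, vg_sq K a⟩
    have hbij : Set.BijOn (fun q : G × G => (q.2, q.1 * q.2)) (orbit2 K (x, y)) (orbit2 K (y, x * y)) := by
      refine ⟨?_, ?_, ?_⟩
      · rintro ⟨u, v⟩ ⟨hu, hv, g, e1, e2⟩
        dsimp only at hu hv e1 e2
        exact ⟨hv, mul_mem hu hv, g, e2, by
          show g * (x * y) * g⁻¹ = u * v
          rw [← e1, ← e2]; group⟩
      · rintro ⟨u, v⟩ - ⟨u', v'⟩ - e
        simp only [Prod.mk.injEq] at e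
        obtain ⟨rfl, e⟩ := e
        rw [mul_right_cancel e]
      · rintro ⟨u, v⟩ ⟨hu, hv, g, e1, e2⟩
        dsimp only at hu hv e1 e2
        refine ⟨(v * u, u), ⟨mul_mem hv hu, hu, g, ?_, e1⟩, ?_⟩
        · show g * x * g⁻¹ = v * u
          rw [show v * u = g * (x * y * y) * g⁻¹ by rw [← e1, ← e2]; group, mul_assoc x, (hcomm hy hy).2, mul_one]
        · show (u, v * u * u) = (u, v)
          rw [mul_assoc, (hcomm hu hu).2, mul_one]
    rw [← hbij.image_eq, Set.ncard_image_of_injOn hbij.injOn]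
  have hcomm : ∀ {u v : G}, u ∈ AG K → v ∈ AG K → u * v = v * u ∧ u * u = 1 := fun hu hv => by
    obtain ⟨a, -, rfl⟩ := (mem_AG K).1 hu
    obtain ⟨b, -, rfl⟩ := (mem_AG K).1 hv
    exact ⟨vg_comm K a b, vg_sq K a⟩
  let t : P → P := fun p => ⟨(p.1.2, p.1.1 * p.1.2), hτmem p p.2⟩
  have ht3 : ∀ p, t (t (t p)) = p := by
    rintro ⟨⟨x, y⟩, hx, hy, h⟩
    refine Subtype.ext ?_
    show ((y * (x * y), x * y * (y * (x * y))) : G × G) = (x, y)
    rw [show y * (x * y) = x by rw [(hcomm hx hy).1, ← mul_assoc, (hcomm hy hy).2, one_mul],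
      (hcomm hx hy).1, mul_assoc, (hcomm hx hx).2, mul_one]
  let τ : Equiv.Perm P := ⟨t, fun p => t (t p), ht3, ht3⟩
  have h := orbit_three τ (Equiv.ext fun p => ht3 p) fun p e => by
    have e1 : p.1.2 = p.1.1 := congrArg (fun q : P => q.1.1) e
    exact (hP1 _ p.2).2 e1
  rw [Nat.card_coe_set_eq, hP] at h
  norm_num at h

theorem main [Finite G] (σ : ↥(cz(d)) →* G₀) (hs : Function.Surjective σ) (hd : d * d = 1) (hd1 : d ≠ 1)
    (hσd : σ ⟨d, mem_cz.2 rfl⟩ = 1) (hker : ∀ x, σ x = 1 → (x : G) = 1 ∨ (x : G) = d)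
    (hperf : commutator ↥(cz(d)) = ⊤) (hnwc : ∃ g : G, g * d * g⁻¹ ∈ cz(d) ∧ g * d * g⁻¹ ≠ d) :
    Concl G d := by
  classical
  obtain ⟨K, -, hKd⟩ := exists_cov σ ⟨d, mem_cz.2 rfl⟩ hs (Subtype.ext hd)
    (fun h => hd1 (congrArg Subtype.val h)) hσd (fun x => Subtype.ext (mem_cz.1 x.2).symm)
    (fun x hx => (hker x hx).imp (fun h => Subtype.ext h) (fun h => Subtype.ext h)) hperf
  have hK : (K.d : G) = d := congrArg Subtype.val hKd
  let P : ℕ → Prop := fun c => ∃ a < 2048, a ≠ 0 ∧ code a = c ∧ IsConj d (vg K a)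
  obtain ⟨S, hS, hbit⟩ := exists_bits P 6
  have hmem : ∀ a < 2048, (IsConj d (vg K a) ↔ Nat.testBit S (code a) = true) := by
    intro a ha
    by_cases h0 : a = 0
    · subst h0
      rw [vg_zero, show code 0 = 7 by decide +kernel,
        Nat.testBit_lt_two_pow (hS.trans (by norm_num : (2 : ℕ) ^ 6 < 2 ^ 7))]
      simp [isConj_one_left, hd1]
    obtain ⟨hc, -, h5⟩ := code_spec K ha
    have h5' := h5.resolve_right h0
    rw [hbit _ (by omega)]
    refine ⟨fun h => ⟨a, ha, h0, rfl, h⟩, ?_⟩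
    rintro ⟨b, hb, -, e, h⟩
    exact h.trans (isConj_of_cls K (e ▸ (code_spec K hb).1) hc)
  have hcentre : code 1024 = 0 := by decide +kernel
  have hS0 : Nat.testBit S 0 = true := hcentre ▸ (hmem 1024 (by norm_num)).1 (by rw [vg_top K hK])
  have hSc := List.all_eq_true.1 cases_ok (S / 2) (List.mem_range.2 (by omega))
  rw [show 2 * (S / 2) + 1 = S by
    have : S % 2 = 1 := by simpa [Nat.testBit_zero] using hS0
    omega] at hSc
  have hconst : ∀ a < 2048, Nat.testBit S (code a) = true → cnt S a = cnt S 1024 := by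
    intro a ha hSa
    obtain ⟨n, hn, hnA⟩ := exists_norm K hK ha ((hmem a ha).2 hSa)
    choose! w hw hnw using hnA
    simp only [cnt, count_filter]
    have hinj : ∀ z < 2048, ∀ z' < 2048, w z = w z' → z = z' := fun z hz z' hz' e => by
      have h1 := hnw z hz
      rw [e, ← hnw z' hz'] at h1
      exact vg_inj K hz hz' (mul_left_cancel (mul_right_cancel h1))
    have hxor : ∀ z < 2048, w (z ^^^ 1024) = w z ^^^ a := fun z hz => by
      have hz' : z ^^^ 1024 < 2048 := Nat.xor_lt_two_pow (n := 11) hz (by norm_num)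
      refine vg_inj K (hw _ hz') (Nat.xor_lt_two_pow (n := 11) (hw z hz) ha) ?_
      rw [vg_xor, ← hnw _ hz', ← hnw z hz, vg_xor, vg_top K hK, ← hn]; group
    have hpres : ∀ z < 2048, Nat.testBit S (code (w z)) = Nat.testBit S (code z) := fun z hz => by
      rw [Bool.eq_iff_iff, ← hmem _ (hw z hz), ← hmem z hz, ← hnw z hz]
      exact ⟨fun h => h.trans (isConj_iff.2 ⟨n, rfl⟩).symm, fun h => h.trans (isConj_iff.2 ⟨n, rfl⟩)⟩
    suffices hb : Set.BijOn w {z | z < 2048 ∧ (Nat.testBit S (code z) && Nat.testBit S (code (Nat.xor z 1024))) = true}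
        {z | z < 2048 ∧ (Nat.testBit S (code z) && Nat.testBit S (code (Nat.xor z a))) = true} by
      rw [← hb.image_eq]
      exact Set.ncard_image_of_injOn hb.injOn
    refine ⟨?_, fun z hz z' hz' e => hinj z hz.1 z' hz'.1 e, ?_⟩
    · rintro z ⟨hz, h⟩
      refine ⟨hw z hz, ?_⟩
      show (Nat.testBit S (code (w z)) && Nat.testBit S (code (w z ^^^ a))) = true
      rw [← hxor z hz, hpres z hz, hpres _ (Nat.xor_lt_two_pow (n := 11) hz (by norm_num))]
      exact h
    · rintro y ⟨hy, h⟩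
      have hi : Function.Injective fun z : Fin 2048 => (⟨w z, hw z z.2⟩ : Fin 2048) :=
        fun z z' e => Fin.ext (hinj z z.2 z' z'.2 (congrArg Fin.val e))
      obtain ⟨⟨z, hz⟩, e⟩ := (Finite.injective_iff_surjective.1 hi) ⟨y, hy⟩
      have e' : w z = y := congrArg Fin.val e
      subst e'
      refine ⟨z, ⟨hz, ?_⟩, rfl⟩
      change (Nat.testBit S (code (w z)) && Nat.testBit S (code (w z ^^^ a))) = true at h
      rw [← hxor z hz, hpres z hz, hpres _ (Nat.xor_lt_two_pow (n := 11) hz (by norm_num))] at h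
      exact h
  have hfive : S = 1 ∨ S = 3 ∨ S = 5 ∨ S = 15 ∨ S = 63 := by
    rw [cases, Bool.or_eq_true] at hSc
    rcases hSc with h | h
    · simp only [List.any_cons, List.any_nil, Bool.or_eq_true, Nat.beq_eq, Bool.false_eq_true, or_false] at h
      exact h
    · simp only [List.any_eq_true, List.mem_range, Bool.and_eq_true, Bool.not_eq_true'] at h
      obtain ⟨c, hc, hb, hne⟩ := h
      have hr := List.all_eq_true.1 rep_ok c (List.mem_range.2 hc)
      rw [Bool.and_eq_true, Nat.beq_eq, Nat.blt_eq] at hr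
      exact absurd (hconst _ hr.2 (hr.1.symm ▸ hb)) (Nat.ne_of_beq_eq_false hne)
  have hdsq : ∀ {x : G}, IsConj d x → x * x = 1 := fun h => by
    obtain ⟨g, rfl⟩ := isConj_iff.1 h
    rw [show g * d * g⁻¹ * (g * d * g⁻¹) = g * (d * d) * g⁻¹ by group, hd]; group
  have hne1 : ∀ {x : G}, IsConj d x → x ≠ 1 := fun h e => hd1 (isConj_one_left.1 (e ▸ h))
  have hclass : ∀ (y : ↥(cz(d))) (c : ℕ), 1 ≤ c → c ≤ 5 → Cls K c y → IsConj d (y : G) →
      Nat.testBit S c = true := by
    intro y c h1 h5 hy hconj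
    obtain ⟨a, ha, hc⟩ := exists_code c h5
    rw [← hc]
    exact (hmem a ha).1 (hconj.trans (isConj_of_cls K hy (hc ▸ (code_spec K ha).1)))
  have h35 : S = 3 ∨ S = 5 := by
    rcases hfive with rfl | rfl | rfl | rfl | rfl
    · obtain ⟨g, hgC, hgne⟩ := hnwc
      have hconj : IsConj d (g * d * g⁻¹) := isConj_iff.2 ⟨g, rfl⟩
      obtain ⟨c, h1, h5, hc⟩ := exists_cls K (x := ⟨_, hgC⟩) (Subtype.ext (hdsq hconj))
        (fun e => hne1 hconj (congrArg Subtype.val e)) (fun e => hgne ((congrArg Subtype.val e).trans hK))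
      have := hclass _ c h1 h5 hc hconj
      interval_cases c <;> (revert this; decide)
    · exact Or.inl rfl
    · exact Or.inr rfl
    · exfalso
      -- two commuting lifts whose product is a conjugate
      have hne : qp 0 ≠ qp 1 := qp_ne (by norm_num) (by norm_num) (by norm_num)
      have hcm := tr_qp_comm (i := 0) (j := 1) (by norm_num) (by norm_num)
      obtain ⟨h, hh0, hh1⟩ := exists_move₂ K hne hcm hne.symm hcm.symm
      set u := K.T (qp 0)
      set v := K.T (qp 1)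
      have hu : h * u * h⁻¹ = v := by rw [← K.conj, hh0]
      have hv : h * v * h⁻¹ = u := by rw [← K.conj, hh1]
      have huv : u * v = v * u := (K.commute hcm).eq
      have hin : ∀ z, z < 2048 → code z ≤ 3 → IsConj d (vg K z) := fun z hz hc => (hmem z hz).2 (by
        generalize code z = c at hc ⊢
        interval_cases c <;> rfl)
      have hsing : ∀ p, IsConj d ((K.T p : ↥(cz(d))) : G) := fun p => by
        obtain ⟨a, ha, hc⟩ := exists_code 1 (by norm_num)
        exact (hin a ha (by omega)).trans (isConj_of_cls K (c := 1) (hc ▸ (code_spec K ha).1) ⟨p, rfl⟩)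
      have hpair : IsConj d ((u * v : ↥(cz(d))) : G) := by
        obtain ⟨a, ha, hc⟩ := exists_code 3 (by norm_num)
        exact (hin a ha (by omega)).trans
          (isConj_of_cls K (c := 3) (hc ▸ (code_spec K ha).1) ⟨_, _, hne, hcm, rfl⟩)
      obtain ⟨g, hg⟩ := isConj_iff.1 hpair.symm
      have hmove : ∀ x : ↥(cz(d)), x * (u * v) = (u * v) * x → g * (x : G) * g⁻¹ ∈ cz(d) := fun x hx => by
        rw [mem_cz]
        have hx' : (x : G) * ((u * v : ↥(cz(d))) : G) = ((u * v : ↥(cz(d))) : G) * (x : G) :=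
          congrArg Subtype.val hx
        have key : g * (x : G) * g⁻¹ * (g * ((u * v : ↥(cz(d))) : G) * g⁻¹) =
            g * ((u * v : ↥(cz(d))) : G) * g⁻¹ * (g * (x : G) * g⁻¹) := by
          calc g * (x : G) * g⁻¹ * (g * ((u * v : ↥(cz(d))) : G) * g⁻¹)
              = g * ((x : G) * ((u * v : ↥(cz(d))) : G)) * g⁻¹ := by group
            _ = g * (((u * v : ↥(cz(d))) : G) * (x : G)) * g⁻¹ := by rw [hx']
            _ = _ := by group
        exact (congrArg (g * (x : G) * g⁻¹ * ·) hg.symm).trans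
          (key.trans (congrArg (· * (g * (x : G) * g⁻¹)) hg))
      let y : ↥(cz(d)) := ⟨g * (u : G) * g⁻¹, hmove u (by rw [← mul_assoc, mul_assoc u v u, ← huv, mul_assoc])⟩
      let y' : ↥(cz(d)) := ⟨g * (v : G) * g⁻¹, hmove v (by rw [← mul_assoc, ← huv])⟩
      let h' : ↥(cz(d)) := ⟨g * (h : G) * g⁻¹, hmove h (by
        have : h * (u * v) * h⁻¹ = u * v := by
          rw [show h * (u * v) * h⁻¹ = (h * u * h⁻¹) * (h * v * h⁻¹) by group, hu, hv, huv]
        rw [← mul_inv_eq_iff_eq_mul.1 this])⟩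
      have hyd : y * y' = K.d := Subtype.ext (by
        show g * (u : G) * g⁻¹ * (g * (v : G) * g⁻¹) = K.d
        calc g * (u : G) * g⁻¹ * (g * (v : G) * g⁻¹) = g * ((u : G) * (v : G)) * g⁻¹ := by group
          _ = d := hg
          _ = K.d := hK.symm)
      have hyconj : IsConj d (y : G) := (hsing _).trans (isConj_iff.2 ⟨g, rfl⟩)
      have hy2 : y * y = 1 := Subtype.ext (hdsq hyconj)
      have hy' : y' = y * K.d := by rw [← hyd, ← mul_assoc, hy2, one_mul]
      have hy1 : y ≠ 1 := fun e => hne1 hyconj (congrArg Subtype.val e)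
      have hyd' : y ≠ K.d := fun e => by
        rw [e, K.d_sq] at hy'
        exact hne1 ((hsing (qp 1)).trans (isConj_iff.2 ⟨g, rfl⟩)) (congrArg Subtype.val hy')
      have := hclass y 5 (by norm_num) le_rfl (cls_five K hy2 hy1 hyd' (e := h') (hy' ▸ Subtype.ext (by
        show g * (h : G) * g⁻¹ * (g * (u : G) * g⁻¹) * (g * (h : G) * g⁻¹)⁻¹ = g * (v : G) * g⁻¹
        rw [← hu, Subgroup.coe_mul, Subgroup.coe_mul, Subgroup.coe_inv]; group))) hyconj
      revert this; decide
    · exact absurd (fun a ha h0 => (hmem a ha).2 (by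
        obtain ⟨-, -, h5⟩ := code_spec K ha
        have := h5.resolve_right h0
        generalize code a = c at this ⊢
        interval_cases c <;> rfl)) (not_all K hK)
  have hcount : {z : ℕ | z < 2048 ∧ Nat.testBit S (code z) = true}.ncard = 23 := by
    rw [← count_filter]
    rcases h35 with rfl | rfl
    · exact size_ok.1
    · exact size_ok.2
  refine ⟨?_, ?_, ?_⟩
  · intro T hT hT2 B B' hB hB' he he'
    have hT2' : IsPGroup 2 (T.subgroupOf (cz(d))) := hT2.of_equiv (Subgroup.subgroupOfEquivOfLe hT).symm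
    obtain ⟨k, hk⟩ := elem_bound K hT2'
    have hsub : ∀ {B : Subgroup G}, B ≤ T → Cfsg.IsElementaryAbelian 2 B →
        B.subgroupOf (cz(d)) ≤ T.subgroupOf (cz(d)) ∧ Cfsg.IsElementaryAbelian 2 (B.subgroupOf (cz(d))) ∧
          Nat.card (B.subgroupOf (cz(d))) = Nat.card B := by
      intro B hB he
      refine ⟨fun x hx => hB hx, ⟨⟨⟨fun x y => ?_⟩⟩, fun x hx => Subtype.ext ?_⟩,
        Nat.card_congr (Subgroup.subgroupOfEquivOfLe (hB.trans hT)).toEquiv⟩
      · exact Subtype.ext (Subtype.ext (congrArg (fun t : B => (t : G))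
          (he.1.is_comm.comm ⟨_, x.2⟩ ⟨_, y.2⟩)))
      · simpa using he.2 _ hx
    obtain ⟨l1, e1, c1⟩ := hsub hB he
    obtain ⟨l2, e2, c2⟩ := hsub hB' he'
    refine ⟨c1 ▸ (hk _ l1 e1).1, fun h1 h2 => ?_⟩
    have := ((hk _ l1 e1).2 (c1.trans h1)).trans ((hk _ l2 e2).2 (c2.trans h2)).symm
    rw [← Subgroup.map_subgroupOf_eq_of_le (hB.trans hT), this,
      Subgroup.map_subgroupOf_eq_of_le (hB'.trans hT)]
  · refine ⟨AG K, Subgroup.map_subtype_le _, ⟨⟨⟨fun x y => ?_⟩⟩, ?_⟩,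
      (Subgroup.card_map_of_injective (Subgroup.subtype_injective _)).trans (card_A K)⟩
    · obtain ⟨a, -, ea⟩ := (mem_AG K).1 x.2
      obtain ⟨b, -, eb⟩ := (mem_AG K).1 y.2
      exact Subtype.ext (by rw [Subgroup.coe_mul, Subgroup.coe_mul, ea, eb, vg_comm])
    · intro x hx
      obtain ⟨a, -, rfl⟩ := (mem_AG K).1 hx
      rw [sq, vg_sq]
  · intro B hB he hc
    obtain ⟨e, hBe⟩ := elem_conj K (B := B.subgroupOf (cz(d)))
      ⟨⟨⟨fun x y => Subtype.ext (Subtype.ext (congrArg (fun t : B => (t : G))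
          (he.1.is_comm.comm ⟨_, x.2⟩ ⟨_, y.2⟩)))⟩⟩, fun x hx => Subtype.ext (by simpa using he.2 _ hx)⟩
      ((Nat.card_congr (Subgroup.subgroupOfEquivOfLe hB).toEquiv).trans hc)
    have hmB : ∀ x : G, x ∈ B ↔ ∃ a < 2048, x = (e : G) * vg K a * (e : G)⁻¹ := by
      intro x
      constructor
      · intro hx
        obtain ⟨a, ha, ea⟩ := (hBe ⟨x, hB hx⟩).1 hx
        exact ⟨a, ha, congrArg Subtype.val ea⟩
      · rintro ⟨a, ha, rfl⟩
        exact (hBe (e * va K a * e⁻¹)).2 ⟨a, ha, rfl⟩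
    have hconj : ∀ a, (IsConj d ((e : G) * vg K a * (e : G)⁻¹) ↔ IsConj d (vg K a)) := fun a =>
      ⟨fun h => h.trans (isConj_iff.2 ⟨(e : G), rfl⟩).symm, fun h => h.trans (isConj_iff.2 ⟨(e : G), rfl⟩)⟩
    refine ⟨?_, ?_⟩
    · rw [← hcount]
      have himg : {x : G | x ∈ B ∧ IsConj d x} = (fun a => (e : G) * vg K a * (e : G)⁻¹) ''
          {z : ℕ | z < 2048 ∧ Nat.testBit S (code z) = true} := by
        ext x
        constructor
        · rintro ⟨hx, hx'⟩
          obtain ⟨a, ha, rfl⟩ := (hmB x).1 hx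
          exact ⟨a, ⟨ha, (hmem a ha).1 ((hconj a).1 hx')⟩, rfl⟩
        · rintro ⟨a, ⟨ha, h⟩, rfl⟩
          exact ⟨(hmB _).2 ⟨a, ha, rfl⟩, (hconj a).2 ((hmem a ha).2 h)⟩
      rw [himg]
      exact Set.ncard_image_of_injOn fun a ha b hb h =>
        vg_inj K ha.1 hb.1 (mul_left_cancel (mul_right_cancel h))
    · intro x hx y hy hdx hdy
      obtain ⟨a, ha, rfl⟩ := (hmB x).1 hx
      obtain ⟨b, hb, rfl⟩ := (hmB y).1 hy
      obtain ⟨n, hn, hnA⟩ := exists_norm K hK ha ((hconj a).1 hdx)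
      obtain ⟨m, hm, hmA⟩ := exists_norm K hK hb ((hconj b).1 hdy)
      let k := (e : G) * (m * n⁻¹) * (e : G)⁻¹
      have hnorm : ∀ {n : G}, (∀ z < 2048, ∃ w < 2048, n * vg K z * n⁻¹ = vg K w) →
          n ∈ Subgroup.normalizer ((AG K : Subgroup G) : Set G) := by
        intro n h
        have hle : (AG K).map (MulAut.conj n).toMonoidHom ≤ AG K := by
          rintro _ ⟨x, hx, rfl⟩
          obtain ⟨z, hz, rfl⟩ := (mem_AG K).1 hx
          obtain ⟨w, hw, ew⟩ := h z hz
          exact (mem_AG K).2 ⟨w, hw, ew⟩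
        have heq : (AG K).map (MulAut.conj n).toMonoidHom = AG K := Subgroup.eq_of_le_of_card_ge hle
          (Subgroup.card_map_of_injective (MulAut.conj n).injective).ge
        rw [Subgroup.mem_normalizer_iff]
        intro x
        constructor
        · exact fun hx => hle ⟨x, hx, rfl⟩
        · intro hx
          have hx : n * x * n⁻¹ ∈ (AG K).map (MulAut.conj n).toMonoidHom := heq.symm ▸ hx
          obtain ⟨u, hu, eu⟩ := hx
          exact (mul_left_cancel (mul_right_cancel (show n * u * n⁻¹ = n * x * n⁻¹ from eu))) ▸ hu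
      have hk : m * n⁻¹ ∈ Subgroup.normalizer ((AG K : Subgroup G) : Set G) :=
        mul_mem (hnorm hmA) (inv_mem (hnorm hnA))
      have hBeq : ∀ x : G, x ∈ B ↔ (e : G)⁻¹ * x * (e : G) ∈ AG K := fun x => by
        rw [hmB, mem_AG]
        exact exists_congr fun z => and_congr_right fun _ =>
          ⟨fun h => by rw [h]; group, fun h => by rw [← h]; group⟩
      refine ⟨k, Subgroup.mem_normalizer_iff.2 fun x => ?_, ?_⟩
      · show x ∈ B ↔ k * x * k⁻¹ ∈ B
        rw [hBeq, hBeq, (Subgroup.mem_normalizer_iff.1 hk _ : _ ↔ _)]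
        simp only [k]
        rw [show (e : G)⁻¹ * ((e : G) * (m * n⁻¹) * (e : G)⁻¹ * x * ((e : G) * (m * n⁻¹) * (e : G)⁻¹)⁻¹) * (e : G)
          = m * n⁻¹ * ((e : G)⁻¹ * x * (e : G)) * (m * n⁻¹)⁻¹ by group]
      · simp only [k]
        rw [← hn, ← hm]
        group

end Cfsg.Agent.Fi22Cover
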