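import Cfsg.Agent.Lib.FischerPresented.Mult22
import Cfsg.Agent.Lib.FischerPresented.Fi22Two

/-!
A perfect double cover of Fi22: the transpositions lift to a class of involutions on which the cover acts as
Fi22 does, normalised so that one product of seven is trivial and another is the central involution.
-/

set_option autoImplicit false
set_option maxRecDepth 100000

namespace Cfsg.Agent.Fi22Cover

open Cfsg.Agent.CosetCert
open Cfsg.Agent.CosetData
open Cfsg.Agent.FischerPresented
open Cfsg.Agent.FischerPresented.Out22 (hm tr tr_eq fix_iff gpt)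
open Cfsg.Agent.FischerPresented.Mult22 (IsLift val ext hept hept' resid)

local notation "FS" => Fi22B.setup

/-- The double cover with its lifted transpositions. -/
structure Cov (E : Type) [Group E] where
  σ : E →* Setup.G FS
  d : E
  T : Fin 3510 → E
  surj : Function.Surjective σ
  d_sq : d * d = 1
  d_ne : d ≠ 1
  map_d : σ d = 1
  central : ∀ x : E, Commute d x
  ker_cases : ∀ x : E, σ x = 1 → x = 1 ∨ x = d
  isLift : IsLift T
  mapT : ∀ p, σ (T p) = tr p
  val_one : val T hept = 1
  val_d : val T hept' = d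

theorem exists_cov {E : Type} [Group E] (σ : E →* Setup.G FS) (d : E) (hs : Function.Surjective σ)
    (hd2 : d * d = 1) (hd1 : d ≠ 1) (hσd : σ d = 1) (hc : ∀ x : E, Commute d x)
    (hker : ∀ x : E, σ x = 1 → x = 1 ∨ x = d) (hperf : commutator E = ⊤) : ∃ K : Cov E, K.σ = σ ∧ K.d = d := by
  have hcen : σ.ker ≤ Subgroup.center E := fun x hx => Subgroup.mem_center_iff.2 fun g => by
    rcases hker x hx with rfl | rfl
    · rw [mul_one, one_mul]
    · exact (hc g).eq.symm
  obtain ⟨T, hT, hσ, hH⟩ := Mult22.exists_lift hcen hs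
  have hk : val T hept' = 1 ∨ val T hept' = d := hker _ (by rw [Mult22.map_val hσ, Mult22.val_hept'])
  refine ⟨⟨σ, d, T, hs, hd2, hd1, hσd, hc, hker, hT, hσ, hH, hk.resolve_left fun hk1 => ?_⟩, rfl, rfl⟩
  have hRk : σ (val T resid) = 1 := by rw [Mult22.map_val hσ, Mult22.val_resid]
  have hR : val T resid = 1 := by
    refine (hker _ hRk).resolve_right fun e => hd1 ?_
    have h3 := Mult22.cube_resid hT (hcen (MonoidHom.mem_ker.2 hRk))
    rwa [e, pow_succ, sq, hd2, one_mul] at h3
  obtain ⟨ψ, hψ⟩ := Setup.exists_hom FS (fun x => ext T (gpt x)) (fun x => Mult22.ext_sq hT _) (fun w hw => by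
    have hl := List.all_eq_true.1 Mult22.base_lt w hw
    rw [← Mult22.val_gpt (T := T) (fun _ _ => rfl) w hl]
    have hc' : val T (w.map gpt) ∈ Subgroup.center E := hcen (by
      rw [MonoidHom.mem_ker, Mult22.map_val hσ, Mult22.val_gpt Mult22.ext_tr_gpt w hl]
      exact Setup.base_one FS w hw)
    rcases Mult22.exists_reduct hT hw hc' with h | h | h | h
    · exact h
    · rw [h, hH]
    · rw [h, hk1]
    · rw [h, hR])
  have hsec : ∀ g, σ (ψ g) = g := fun g => DFunLike.congr_fun (MonoidHom.eq_of_eqOn_dense (Setup.closure_gen FS)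
    (f := σ.comp ψ) (g := MonoidHom.id _) (by
      rintro _ ⟨x, hx, rfl⟩
      obtain ⟨h, e⟩ := Out22.tr_gpt (show x < 9 from hx)
      show σ (ψ (Setup.gen FS x)) = _
      rw [hψ x hx, Mult22.ext, dif_pos h, hσ, e]
      rfl)) g
  have hin : ∀ x : E, (ψ (σ x))⁻¹ * x ∈ Subgroup.center E := fun x =>
    hcen (by rw [MonoidHom.mem_ker, map_mul, map_inv, hsec, inv_mul_cancel])
  let φ : E →* Subgroup.center E :=
    { toFun := fun x => ⟨(ψ (σ x))⁻¹ * x, hin x⟩
      map_one' := Subtype.ext (by simp)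
      map_mul' := fun x y => Subtype.ext (by
        show (ψ (σ (x * y)))⁻¹ * (x * y) = (ψ (σ x))⁻¹ * x * ((ψ (σ y))⁻¹ * y)
        have h := Subgroup.mem_center_iff.1 (hin x) (ψ (σ y))⁻¹
        rw [← mul_assoc ((ψ (σ x))⁻¹ * x), ← h, map_mul, map_mul]
        group) }
  have hφ : commutator E ≤ φ.ker := by
    rw [commutator_def, Subgroup.commutator_le]
    intro a _ b _
    rw [MonoidHom.mem_ker, map_commutatorElement, commutatorElement_eq_one_iff_commute]
    exact Subtype.ext (Subgroup.mem_center_iff.1 (φ b).2 (φ a : E))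
  have h := congrArg Subtype.val (hφ (hperf ▸ Subgroup.mem_top d) : φ d = 1)
  change (ψ (σ d))⁻¹ * d = 1 at h
  rw [hσd, map_one, inv_one, one_mul] at h
  exact hd1 h

namespace Cov

variable {E : Type} [Group E] (K : Cov E)

theorem T_sq (p : Fin 3510) : K.T p * K.T p = 1 := K.isLift.sq p

theorem T_inv (p : Fin 3510) : (K.T p)⁻¹ = K.T p := inv_eq_of_mul_eq_one_right (K.T_sq p)

theorem eq_or {x y : E} (h : K.σ x = K.σ y) : x = y ∨ x = y * K.d := by
  rcases K.ker_cases (y⁻¹ * x) (by rw [map_mul, map_inv, h, inv_mul_cancel]) with e | e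
  · exact Or.inl (inv_mul_eq_one.1 e).symm
  · exact Or.inr (by rw [← e, mul_inv_cancel_left])

theorem closure_T : Subgroup.closure (Set.range K.T) = ⊤ := by
  refine eq_top_iff.2 fun x _ => ?_
  have himg : Subgroup.map K.σ (Subgroup.closure (Set.range K.T)) = ⊤ := by
    rw [MonoidHom.map_closure, eq_top_iff, ← Fi22Class.isClass.2.2]
    refine Subgroup.closure_mono fun a ha => ?_
    obtain ⟨p, rfl⟩ := Out22.exists_tr ha
    exact ⟨K.T p, ⟨p, rfl⟩, K.mapT p⟩
  have hd : K.d ∈ Subgroup.closure (Set.range K.T) := by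
    rw [← K.val_d]
    refine Subgroup.list_prod_mem _ fun a ha => ?_
    obtain ⟨n, -, rfl⟩ := List.mem_map.1 ha
    unfold Mult22.ext
    split_ifs with h
    · exact Subgroup.subset_closure ⟨_, rfl⟩
    · exact one_mem _
  obtain ⟨y, hy, e⟩ : K.σ x ∈ Subgroup.map K.σ (Subgroup.closure (Set.range K.T)) := himg ▸ Subgroup.mem_top _
  rcases K.eq_or e.symm with e | e
  · rw [e]; exact hy
  · rw [e]; exact mul_mem hy hd

theorem conj (e : E) : ∀ p, K.T (hm (K.σ e) p) = e * K.T p * e⁻¹ := by
  have he : e ∈ Subgroup.closure (Set.range K.T) := K.closure_T ▸ Subgroup.mem_top e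
  induction he using Subgroup.closure_induction with
  | mem x hx => obtain ⟨a, rfl⟩ := hx; intro p; rw [K.mapT]; exact K.isLift.conj a p
  | one => intro p; simp
  | mul x y _ _ hx hy =>
    intro p
    rw [map_mul, Out22.hom_mul_apply, hx, hy]
    group
  | inv x _ hx =>
    intro p
    have h := hx (hm (K.σ x⁻¹) p)
    rw [← Out22.hom_mul_apply, ← map_mul, mul_inv_cancel, map_one, map_one, Equiv.Perm.one_apply] at h
    rw [h]
    group

theorem commute {p q : Fin 3510} (h : Commute (tr p) (tr q)) : Commute (K.T p) (K.T q) := by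
  have h' := K.conj (K.T p) q
  rw [K.mapT, (fix_iff (tr p) q).2 h] at h'
  exact (mul_inv_eq_iff_eq_mul.1 h'.symm)

theorem commute_of {p q : Fin 3510} (h : Commute (K.T p) (K.T q)) : Commute (tr p) (tr q) := by
  rw [← K.mapT, ← K.mapT]
  exact h.map K.σ

theorem T_injective : Function.Injective K.T := fun p q h =>
  Out22.tr_injective (by rw [← K.mapT, ← K.mapT, h])

theorem T_ne_Td (p q : Fin 3510) : K.T p ≠ K.T q * K.d := fun h => by
  have e : p = q := Out22.tr_injective (by rw [← K.mapT, ← K.mapT, h, map_mul, K.map_d, mul_one])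
  rw [e] at h
  exact K.d_ne (mul_left_cancel (a := K.T q) (by rw [← h, mul_one]))

end Cov

end Cfsg.Agent.Fi22Cover
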