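import Cfsg.Agent.Lib.Fi22Cover.Data
import Cfsg.Agent.Lib.Fi22Cover.Lift
import Cfsg.Agent.Lib.Fi22Local.Basic

/-!
The preimage of the 2^10 in a double cover: elementary abelian of order 2^11, with the lifts of its 22
transpositions as vectors.
-/

set_option autoImplicit false
set_option maxRecDepth 100000

namespace Cfsg.Agent.Fi22Cover

open Cfsg.Agent.CosetCert
open Cfsg.Agent.CosetData
open Cfsg.Agent.FischerPresented
open Cfsg.Agent.FischerPresented.Out22 (hm tr tr_eq fix_iff gpt)
open Cfsg.Agent.FischerPresented.Mult22 (val ext hept hept')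

local notation "G₀" => Setup.G Fi22B.setup
local notation "wp" => wprod (Setup.gen Fi22B.setup)

/-- The coset of index `i`. -/
def qp (i : ℕ) : Fin 3510 := ⟨qs.getD i 0 % 3510, Nat.mod_lt _ (by norm_num)⟩

/-- The path of index `i`. -/
def pw (i : ℕ) : List ℕ := Fi22Two.dW (cliquePath i)
where cliquePath (i : ℕ) : List ℕ := Fi22Two.cliqueW.getD i []

/-- The vector of index `i`. -/
def vec (i : ℕ) : ℕ := qv.getD i 0

theorem qs_ok : ((List.range 22).all fun i => Nat.blt (qs.getD i 0) 3510 &&
    ((Fi22Two.cliqueW.getD i []).all fun x => Nat.blt x 9) &&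
    Nat.beq (tact Fi22B.P (Fi22Two.cliqueW.getD i []) 0) (qs.getD i 0)) = true := by decide +kernel

theorem pairs_ok : ((List.range 22).all fun i => (List.range 22).all fun j =>
    Nat.beq (tact Fi22B.P (pw i).reverse (qs.getD j 0)) (qs.getD j 0)) = true := by decide +kernel

theorem tr_qp {i : ℕ} (hi : i < 22) : tr (qp i) = wp (pw i) ∧ (pw i).all (fun x => Nat.blt x 9) = true := by
  have h := List.all_eq_true.1 qs_ok i (List.mem_range.2 hi)
  simp only [Bool.and_eq_true, Nat.blt_eq, Nat.beq_eq] at h
  refine ⟨Out22.tr_word (v := Fi22Two.cliqueW.getD i []) (p := qp i) h.1.2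
    (h.2.trans (Nat.mod_eq_of_lt h.1.1).symm), ?_⟩
  simp only [pw, pw.cliquePath, Fi22Two.dW, List.all_append, List.all_reverse, h.1.2]
  rfl

theorem tr_qp_comm {i j : ℕ} (hi : i < 22) (hj : j < 22) : Commute (tr (qp i)) (tr (qp j)) := by
  obtain ⟨e, hw⟩ := tr_qp hi
  refine (fix_iff _ _).1 (Fin.ext ?_)
  have hq := List.all_eq_true.1 qs_ok j (List.mem_range.2 hj)
  simp only [Bool.and_eq_true, Nat.blt_eq] at hq
  have h := List.all_eq_true.1 (List.all_eq_true.1 pairs_ok i (List.mem_range.2 hi)) j (List.mem_range.2 hj)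
  rw [Nat.beq_eq] at h
  rw [e, Out22.hom_word hw]
  show tact Fi22B.P (pw i).reverse (qs.getD j 0 % 3510) = qs.getD j 0 % 3510
  rw [Nat.mod_eq_of_lt hq.1.1, h]

theorem basis_ok : ((List.range 10).all fun k => Nat.blt (bix.getD k 0) 22 &&
    (Fi22Two.basisW.getD k [] == pw (bix.getD k 0)) && Nat.beq (vec (bix.getD k 0)) (2 ^ k)) = true := by
  decide +kernel

theorem basis_eq : Fi22Two.basisW = bix.map pw := by decide +kernel

theorem bix_lt : ∀ i ∈ bix, i < 22 := by decide

/-- One step of the derivation of the vectors. -/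
noncomputable def stepOK (known : List ℕ) (s : Bool × List ℕ × ℕ × List ℕ) : Bool :=
  let h := bif s.1 then hept' else hept
  let r := h.drop s.2.2.1 ++ h.take s.2.2.1
  match s.2.2.2 with
  | [] => false
  | u :: t => (s.2.1.all fun x => Nat.blt x 9) && Nat.blt u 22 &&
      ((u :: t).map (fun i => qs.getD i 0) == r.map (tact Fi22B.P s.2.1)) &&
      r.all (fun p => Nat.blt p 3510) && t.all (fun i => known.any (Nat.beq i)) &&
      Nat.beq (vec u) (Nat.xor (bif s.1 then 1024 else 0) (t.foldr (fun i a => Nat.xor (vec i) a) 0))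

/-- All steps in order. -/
noncomputable def chainOK : List ℕ → List (Bool × List ℕ × ℕ × List ℕ) → Bool
  | known, [] => (List.range 22).all fun i => known.any (Nat.beq i)
  | known, s :: ss => stepOK known s && chainOK (s.2.2.2.headD 0 :: known) ss

theorem chain_ok : chainOK bix steps = true := by decide +kernel

theorem vec_lt : ((List.range 22).all fun i => Nat.blt (vec i) 2048) = true := by decide +kernel

variable {E : Type} [Group E] (K : Cov E)

/-- The basis. -/
def es : List E := bix.map (fun i => K.T (qp i)) ++ [K.d]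

/-- The element with given coordinates. -/
def va (a : ℕ) : E := TwoCert.val (es K) a

theorem es_length : (es K).length = 11 := by simp [es, bix]

theorem mem_es {e : E} (he : e ∈ es K) : (∃ i < 22, e = K.T (qp i)) ∨ e = K.d := by
  rcases List.mem_append.1 he with h | h
  · obtain ⟨i, hi, rfl⟩ := List.mem_map.1 h
    exact Or.inl ⟨i, bix_lt i hi, rfl⟩
  · exact Or.inr (List.mem_singleton.1 h)

theorem es_sq : ∀ e ∈ es K, e * e = 1 := by
  intro e he
  rcases mem_es K he with ⟨i, -, rfl⟩ | rfl
  · exact K.T_sq _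
  · exact K.d_sq

theorem es_comm : ∀ e ∈ es K, ∀ e' ∈ es K, Commute e e' := by
  intro e he e' he'
  rcases mem_es K he with ⟨i, hi, rfl⟩ | rfl
  · rcases mem_es K he' with ⟨j, hj, rfl⟩ | rfl
    · exact K.commute (tr_qp_comm hi hj)
    · exact (K.central _).symm
  · exact K.central _

theorem va_xor (a b : ℕ) : va K (a ^^^ b) = va K a * va K b := TwoCert.val_xor (es_sq K) (es_comm K) a b

theorem va_comm (a b : ℕ) : va K a * va K b = va K b * va K a := by
  rw [← va_xor, ← va_xor, Nat.xor_comm]

theorem va_zero : va K 0 = 1 := TwoCert.val_zero _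

theorem va_sq (a : ℕ) : va K a * va K a = 1 := by rw [← va_xor, Nat.xor_self, va_zero]

theorem va_top : va K 1024 = K.d := by
  show TwoCert.val (es K) (2 ^ 10) = _
  rw [TwoCert.val_pow _ 10 (by rw [es_length]; norm_num)]
  rfl

theorem T_basis {i : ℕ} (hi : i ∈ bix) : va K (vec i) = K.T (qp i) := by
  obtain ⟨k, hk, e⟩ : ∃ k, k < 10 ∧ bix.getD k 0 = i := by
    have key : ∀ i ∈ bix, (List.range 10).any (fun k => Nat.beq (bix.getD k 0) i) = true := by decide
    simpa [List.any_eq_true] using key i hi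
  have h := List.all_eq_true.1 basis_ok k (List.mem_range.2 hk)
  simp only [Bool.and_eq_true, Nat.beq_eq] at h
  rw [← e, h.2]
  show TwoCert.val (es K) (2 ^ k) = _
  rw [TwoCert.val_pow _ k (by rw [es_length]; omega)]
  interval_cases k <;> rfl

theorem val_central {c : E} (hc : ∀ x, Commute c x) (e : E) {l : List ℕ} (hl : val K.T l = c)
    (hlt : ∀ p ∈ l, p < 3510) :
    (l.map fun p => e * ext K.T p * e⁻¹).prod = c := by
  have h : ∀ m : List ℕ, (m.map fun p => e * ext K.T p * e⁻¹).prod = e * val K.T m * e⁻¹ := by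
    intro m
    induction m with
    | nil => simp [val]
    | cons p m ih => rw [List.map_cons, List.prod_cons, ih, Mult22.val_cons]; group
  rw [h, hl, ← (hc e).eq, mul_inv_cancel_right]

theorem val_rot {c : E} (hc : ∀ x, Commute c x) {l : List ℕ} (k : ℕ) (hl : val K.T l = c) :
    val K.T (l.drop k ++ l.take k) = c := by
  have e : val K.T (l.take k) * val K.T (l.drop k) = c := by
    rw [← Mult22.val_append, List.take_append_drop, hl]
  rw [Mult22.val_append]
  calc val K.T (l.drop k) * val K.T (l.take k)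
      = (val K.T (l.take k))⁻¹ * (val K.T (l.take k) * val K.T (l.drop k) * val K.T (l.take k)) := by group
    _ = c := by rw [e, (hc _).eq]; group

theorem step_sound {known : List ℕ} {s : Bool × List ℕ × ℕ × List ℕ} (h : stepOK known s = true)
    (hk : ∀ i ∈ known, va K (vec i) = K.T (qp i)) :
    va K (vec (s.2.2.2.headD 0)) = K.T (qp (s.2.2.2.headD 0)) := by
  obtain ⟨b, v, k, l⟩ := s
  cases l with
  | nil => simp [stepOK] at h
  | cons u t =>
    simp only [stepOK, Bool.and_eq_true, List.all_eq_true, Nat.blt_eq, beq_iff_eq, List.any_eq_true,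
      Nat.beq_eq] at h
    obtain ⟨⟨⟨⟨⟨hv, hu⟩, himg⟩, hlt⟩, hknown⟩, hvec⟩ := h
    set r := (bif b then hept' else hept).drop k ++ (bif b then hept' else hept).take k with hr
    set c : E := bif b then K.d else 1 with hcdef
    have hc : ∀ x, Commute c x := by cases b <;> simp [hcdef, K.central]
    have hval : val K.T r = c := val_rot K hc k (by cases b <;> simp [hcdef, K.val_one, K.val_d])
    obtain ⟨e, he⟩ := K.surj (wp v.reverse)
    have hv' : (v.reverse.all fun x => Nat.blt x 9) = true := by
      rw [List.all_reverse, List.all_eq_true]; simpa [Nat.blt_eq] using hv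
    have hmap : (r.map fun p => e * ext K.T p * e⁻¹) = (u :: t).map fun i => K.T (qp i) := by
      have h1 : (r.map fun p => e * ext K.T p * e⁻¹) =
          (r.map (tact Fi22B.P v)).map fun q => K.T ⟨q % 3510, Nat.mod_lt _ (by norm_num)⟩ := by
        rw [List.map_map]
        refine List.map_congr_left fun p hp => ?_
        have hp' := hlt p hp
        show e * ext K.T p * e⁻¹ = _
        rw [ext, dif_pos hp', ← K.conj, he]
        refine congrArg K.T (Fin.ext ((Out22.hom_word hv' _).trans ?_))
        rw [List.reverse_reverse]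
        refine (Nat.mod_eq_of_lt ?_).symm
        have := (hm (wp v.reverse) ⟨p, hp'⟩).2
        rwa [Out22.hom_word hv', List.reverse_reverse] at this
      rw [h1, ← himg, List.map_map]
      rfl
    have hprod := val_central K hc e hval hlt
    rw [hmap, List.map_cons, List.prod_cons] at hprod
    have ht : (t.map fun i => K.T (qp i)).prod = va K (t.foldr (fun i a => Nat.xor (vec i) a) 0) := by
      clear hprod hmap himg hvec
      induction t with
      | nil => simp [va_zero]
      | cons i t ih =>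
        rw [List.map_cons, List.prod_cons, List.foldr_cons, ih fun j hj => hknown j (List.mem_cons_of_mem _ hj)]
        obtain ⟨j, hj, rfl⟩ := hknown i List.mem_cons_self
        rw [← hk _ hj]
        exact (va_xor K _ _).symm
    rw [ht] at hprod
    show va K (vec u) = K.T (qp u)
    rw [hvec]
    show va K ((bif b then 1024 else 0) ^^^ _) = _
    rw [va_xor, show va K (bif b then 1024 else 0) = c by cases b <;> simp [hcdef, va_top, va_zero],
      ← hprod, mul_assoc, va_sq, mul_one]

theorem chain_sound : ∀ (ss : List (Bool × List ℕ × ℕ × List ℕ)) (known : List ℕ),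
    chainOK known ss = true → (∀ i ∈ known, va K (vec i) = K.T (qp i)) →
    ∀ i < 22, va K (vec i) = K.T (qp i) := by
  intro ss
  induction ss with
  | nil =>
    intro known h hk i hi
    simp only [chainOK, List.all_eq_true, List.mem_range, List.any_eq_true, Nat.beq_eq] at h
    obtain ⟨j, hj, rfl⟩ := h i hi
    exact hk _ hj
  | cons s ss ih =>
    intro known h hk
    rw [chainOK, Bool.and_eq_true] at h
    refine ih _ h.2 fun i hi => ?_
    rcases List.mem_cons.1 hi with rfl | hi
    · exact step_sound K h.1 hk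
    · exact hk i hi

theorem T_eq {i : ℕ} (hi : i < 22) : K.T (qp i) = va K (vec i) :=
  (chain_sound K steps bix chain_ok (fun _ h => T_basis K h) i hi).symm

theorem sigma_va {a : ℕ} (ha : a < 1024) : K.σ (va K a) = Fi22Two.sys.va a := by
  have hes : (es K).map K.σ = Fi22Two.sys.es ++ [1] := by
    show (bix.map (fun i => K.T (qp i)) ++ [K.d]).map K.σ = Fi22Two.basisW.map (fun w => wp w) ++ [1]
    rw [List.map_append, basis_eq, List.map_map, List.map_map, List.map_cons, List.map_nil, K.map_d]
    refine congrArg (· ++ [(1 : G₀)]) (List.map_congr_left fun i hi => ?_)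
    show K.σ (K.T (qp i)) = wp (pw i)
    rw [K.mapT, (tr_qp (bix_lt i hi)).1]
  have happ : ∀ (l : List G₀) (a : ℕ), TwoCert.val (l ++ [1]) a = TwoCert.val l a := by
    intro l
    induction l with
    | nil => intro a; simp [TwoCert.val]
    | cons x l ih => intro a; rw [List.cons_append, TwoCert.val, TwoCert.val, ih]
  rw [va, TwoCert.val_map, hes, happ]
  rfl

theorem split_top {a : ℕ} (ha : a < 2048) : a < 1024 ∨ (a ^^^ 1024 < 1024) := by
  by_cases h : a < 1024
  · exact Or.inl h
  · refine Or.inr ?_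
    have : a ^^^ 1024 = a - 1024 := by
      have h0 : a = (a - 1024) + 1024 := by omega
      rw [h0, show (a - 1024) + 1024 - 1024 = a - 1024 by omega]
      have hlt : a - 1024 < 2 ^ 10 := by omega
      rw [show (a - 1024) + 1024 = 2 ^ 10 * 1 + (a - 1024) by ring]
      rw [Nat.two_pow_add_eq_or_of_lt hlt]
      refine Nat.eq_of_testBit_eq fun i => ?_
      simp only [Nat.testBit_xor, Nat.testBit_or, mul_one, show (1024 : ℕ) = 2 ^ 10 by norm_num,
        Nat.testBit_two_pow]
      by_cases hi : (10 : ℕ) = i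
      · subst hi
        simp [Nat.testBit_lt_two_pow hlt]
      · simp [hi]
    rw [this]; omega

theorem va_top_mul (a : ℕ) : va K (a ^^^ 1024) = va K a * K.d := by rw [va_xor, va_top]

theorem sigma_va_any {a : ℕ} (ha : a < 2048) : ∃ b < 1024, K.σ (va K a) = Fi22Two.sys.va b ∧ (b = a ∨ b = a ^^^ 1024) := by
  rcases split_top ha with h | h
  · exact ⟨a, h, sigma_va K h, Or.inl rfl⟩
  · refine ⟨_, h, ?_, Or.inr rfl⟩
    rw [← sigma_va K h, va_top_mul, map_mul, K.map_d, mul_one]

theorem va_eq_one {a : ℕ} (ha : a < 2048) (h : va K a = 1) : a = 0 := by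
  obtain ⟨b, hb, e, hab⟩ := sigma_va_any K ha
  rw [h, map_one] at e
  have hb0 : b = 0 := by
    by_contra hne
    exact Fi22Two.sys.va_ne_one b hb hne e.symm
  rcases hab with rfl | hab
  · exact hb0
  · rw [hb0] at hab
    have h2 : a = 1024 := Nat.xor_eq_zero_iff.1 hab.symm
    rw [h2, va_top] at h
    exact absurd h K.d_ne

theorem va_inj {a b : ℕ} (ha : a < 2048) (hb : b < 2048) (h : va K a = va K b) : a = b :=
  Nat.xor_eq_zero_iff.1 (va_eq_one K (Nat.xor_lt_two_pow (n := 11) ha hb) (by rw [va_xor, h, va_sq]))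

/-- The preimage of the 2^10. -/
noncomputable def A : Subgroup E := Fi22Two.A0.comap K.σ

theorem mem_A {x : E} : x ∈ A K ↔ ∃ a < 2048, x = va K a := by
  constructor
  · intro hx
    obtain ⟨a, ha, e⟩ := hx
    have ha' : a < 1024 := ha
    rcases K.eq_or (x := x) (y := va K a) (by rw [sigma_va K ha']; exact e) with h | h
    · exact ⟨a, by omega, h⟩
    · exact ⟨a ^^^ 1024, Nat.xor_lt_two_pow (n := 11) (show a < 2 ^ 11 by omega) (by norm_num),
        by rw [va_top_mul, h]⟩
  · rintro ⟨a, ha, rfl⟩
    obtain ⟨b, hb, e, -⟩ := sigma_va_any K ha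
    exact ⟨b, hb, e⟩

theorem va_mem {a : ℕ} (ha : a < 2048) : va K a ∈ A K := (mem_A K).2 ⟨a, ha, rfl⟩

theorem A_elementary : Cfsg.IsElementaryAbelian 2 (A K) := by
  refine ⟨⟨⟨fun x y => ?_⟩⟩, fun x hx => ?_⟩
  · obtain ⟨a, -, hx⟩ := (mem_A K).1 x.2
    obtain ⟨b, -, hy⟩ := (mem_A K).1 y.2
    exact Subtype.ext (by rw [Subgroup.coe_mul, Subgroup.coe_mul, hx, hy, va_comm])
  · obtain ⟨a, -, rfl⟩ := (mem_A K).1 hx
    rw [sq, va_sq]

theorem card_A : Nat.card (A K) = 2 ^ 11 := by
  let φ : Fin (2 ^ 11) → A K := fun a => ⟨va K a, va_mem K a.2⟩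
  have hφ : Function.Bijective φ := by
    refine ⟨fun p q h => Fin.ext (va_inj K p.2 q.2 (congrArg Subtype.val h)), fun x => ?_⟩
    obtain ⟨a, ha, e⟩ := (mem_A K).1 x.2
    exact ⟨⟨a, ha⟩, Subtype.ext e.symm⟩
  rw [← Nat.card_eq_of_bijective φ hφ, Nat.card_fin]

end Cfsg.Agent.Fi22Cover
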