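import Cfsg.Agent.Lib.Fi22Cover.Fusion
import Mathlib.Algebra.Group.Shrink

/-!
The facts about the 2^11 in any finite group, and the Thompson subgroup of a Sylow subgroup of the centraliser.
-/

set_option autoImplicit false

namespace Cfsg.Agent.Fi22Cover

open Cfsg.Agent.CosetCert
open Cfsg.Agent.CosetData

universe u

theorem elementary_comap {G' : Type*} [Group G'] {G : Type*} [Group G] (e : G' ≃* G) {B : Subgroup G}
    (h : Cfsg.IsElementaryAbelian 2 B) : Cfsg.IsElementaryAbelian 2 (B.comap e.toMonoidHom) := by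
  refine ⟨⟨⟨fun x y => Subtype.ext (e.injective ?_)⟩⟩, fun x hx => e.injective ?_⟩
  · rw [Subgroup.coe_mul, Subgroup.coe_mul, map_mul, map_mul]
    exact congrArg Subtype.val (h.1.is_comm.comm (⟨_, x.2⟩ : B) ⟨_, y.2⟩)
  · rw [map_pow, map_one]; exact h.2 _ hx

theorem elementary_map_equiv {G' : Type*} [Group G'] {G : Type*} [Group G] (e : G' ≃* G) {B : Subgroup G'}
    (h : Cfsg.IsElementaryAbelian 2 B) : Cfsg.IsElementaryAbelian 2 (B.map e.toMonoidHom) := by
  rw [show B.map e.toMonoidHom = B.comap e.symm.toMonoidHom from Subgroup.map_equiv_eq_comap_symm e B]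
  exact elementary_comap e.symm h

theorem card_comap_equiv {G' : Type*} [Group G'] {G : Type*} [Group G] (e : G' ≃* G) (B : Subgroup G) :
    Nat.card (B.comap e.toMonoidHom) = Nat.card B :=
  Nat.card_congr (Equiv.subtypeEquiv e.toEquiv fun _ => Iff.rfl)

theorem isConj_equiv {G' : Type*} [Group G'] {G : Type*} [Group G] (e : G' ≃* G) {x y : G'} :
    IsConj (e x) (e y) ↔ IsConj x y := by
  refine ⟨fun h => ?_, fun h => e.toMonoidHom.map_isConj h⟩
  simpa using e.symm.toMonoidHom.map_isConj h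

theorem concl_of_equiv {G' : Type} [Group G'] {G : Type u} [Group G] (e : G' ≃* G) {d : G}
    (h : Concl G' (e.symm d)) : Concl G d := by
  obtain ⟨h1, h2, h3⟩ := h
  set f := e.toMonoidHom
  have hcz : ∀ {B : Subgroup G}, B ≤ Subgroup.centralizer {d} →
      B.comap f ≤ Subgroup.centralizer {e.symm d} := fun {B} hB x hx => by
    rw [Subgroup.mem_centralizer_singleton_iff]
    refine e.injective ?_
    rw [map_mul, map_mul, e.apply_symm_apply]
    exact Subgroup.mem_centralizer_singleton_iff.1 (hB hx)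
  have hinj : ∀ {B B' : Subgroup G}, B.comap f = B'.comap f → B = B' := fun {B B'} h =>
    Subgroup.comap_injective e.surjective h
  refine ⟨fun S hS hS2 B B' hB hB' he he' => ?_, ?_, fun B hB he hc => ?_⟩
  · obtain ⟨hb, hu⟩ := h1 (S.comap f) (hcz hS) (hS2.comap_of_injective f e.injective) (B.comap f) (B'.comap f)
      (Subgroup.comap_mono hB) (Subgroup.comap_mono hB') (elementary_comap e he) (elementary_comap e he')
    rw [card_comap_equiv, card_comap_equiv] at hu
    rw [card_comap_equiv] at hb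
    exact ⟨hb, fun a b => hinj (hu a b)⟩
  · obtain ⟨B, hB, he, hc⟩ := h2
    refine ⟨B.map f, ?_, elementary_map_equiv e he,
      (Subgroup.card_map_of_injective e.injective).trans hc⟩
    rintro _ ⟨x, hx, rfl⟩
    rw [Subgroup.mem_centralizer_singleton_iff]
    have := congrArg e (Subgroup.mem_centralizer_singleton_iff.1 (hB hx))
    simpa [f] using this
  · obtain ⟨hn, ht⟩ := h3 (B.comap f) (hcz hB) (elementary_comap e he) ((card_comap_equiv e B).trans hc)
    have hconj : ∀ x : G', IsConj (e.symm d) x ↔ IsConj d (e x) := fun x => by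
      rw [← isConj_equiv e, e.apply_symm_apply]
    refine ⟨?_, fun x hx y hy hdx hdy => ?_⟩
    · rw [← hn, ← Set.ncard_image_of_injective {x : G' | x ∈ B.comap f ∧ IsConj (e.symm d) x} e.injective]
      refine congrArg Set.ncard (Set.ext fun x => ⟨fun ⟨hx, hx'⟩ => ⟨e.symm x, ⟨?_, ?_⟩, e.apply_symm_apply x⟩, ?_⟩)
      · show e (e.symm x) ∈ B; rwa [e.apply_symm_apply]
      · rw [hconj, e.apply_symm_apply]; exact hx'
      · rintro ⟨y, ⟨hy, hy'⟩, rfl⟩
        exact ⟨hy, (hconj y).1 hy'⟩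
    · obtain ⟨n, hn', e'⟩ := ht (e.symm x) (by show e (e.symm x) ∈ B; rwa [e.apply_symm_apply])
        (e.symm y) (by show e (e.symm y) ∈ B; rwa [e.apply_symm_apply])
        (by rw [hconj, e.apply_symm_apply]; exact hdx) (by rw [hconj, e.apply_symm_apply]; exact hdy)
      refine ⟨e n, Subgroup.mem_normalizer_iff.2 fun z => ?_, ?_⟩
      · have := (Subgroup.mem_normalizer_iff.1 hn') (e.symm z)
        simpa [Subgroup.mem_comap, f] using this
      · have := congrArg e e'
        simpa using this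

/-- The hypotheses in any universe. -/
theorem main_univ {G : Type u} [Group G] [Finite G] {d : G}
    (σ : ↥(Subgroup.centralizer ({d} : Set G)) →* Setup.G Fi22B.setup) (hs : Function.Surjective σ)
    (hd : orderOf d = 2) (hσd : ∀ x : ↥(Subgroup.centralizer ({d} : Set G)), (x : G) = d → σ x = 1)
    (hker : ∀ x, σ x = 1 → (x : G) = 1 ∨ (x : G) = d)
    (hperf : commutator ↥(Subgroup.centralizer ({d} : Set G)) = ⊤)
    (hnwc : ∃ g : G, g * d * g⁻¹ ∈ Subgroup.centralizer ({d} : Set G) ∧ g * d * g⁻¹ ≠ d) :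
    Concl G d := by
  let e : Shrink.{0} G ≃* G := Shrink.mulEquiv
  have : Finite (Shrink.{0} G) := Finite.of_equiv G e.symm.toEquiv
  refine concl_of_equiv e ?_
  set d' := e.symm d
  have hd' : orderOf d' = 2 := by rw [e.symm.orderOf_eq, hd]
  have hd2 : d' * d' = 1 := by rw [← sq, ← hd', pow_orderOf_eq_one]
  have hmem : ∀ x : Shrink.{0} G, x ∈ Subgroup.centralizer {d'} ↔ e x ∈ Subgroup.centralizer {d} := fun x => by
    rw [Subgroup.mem_centralizer_singleton_iff, Subgroup.mem_centralizer_singleton_iff, ← e.injective.eq_iff,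
      map_mul, map_mul, e.apply_symm_apply]
  let r : ↥(Subgroup.centralizer {d'}) ≃* ↥(Subgroup.centralizer ({d} : Set G)) :=
    { toFun := fun x => ⟨e x, (hmem x).1 x.2⟩
      invFun := fun x => ⟨e.symm x, (hmem _).2 (by rw [e.apply_symm_apply]; exact x.2)⟩
      left_inv := fun x => Subtype.ext (e.symm_apply_apply _)
      right_inv := fun x => Subtype.ext (e.apply_symm_apply _)
      map_mul' := fun x y => Subtype.ext (map_mul e _ _) }
  refine main (σ.comp r.toMonoidHom) (hs.comp r.surjective) hd2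
    (fun h => by rw [h, orderOf_one] at hd'; norm_num at hd') (hσd _ (e.apply_symm_apply d))
    (fun x hx => (hker (r x) hx).imp (fun h => e.injective (h.trans (map_one e).symm))
      (fun h => e.injective (h.trans (e.apply_symm_apply d).symm))) ?_ ?_
  · rw [← Subgroup.map_top_of_surjective r.symm.toMonoidHom r.symm.surjective, ← hperf, commutator_def,
      commutator_def, Subgroup.map_commutator, Subgroup.map_top_of_surjective r.symm.toMonoidHom r.symm.surjective]
  · obtain ⟨g, hg, hne⟩ := hnwc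
    refine ⟨e.symm g, (hmem _).2 ?_, fun h => hne ?_⟩
    · rw [map_mul, map_mul, map_inv, e.apply_symm_apply, e.apply_symm_apply]; exact hg
    · have := congrArg e h
      simpa [d'] using this

/-- The Thompson subgroup of a Sylow subgroup of the centraliser. -/
theorem thompson {G : Type u} [Group G] [Finite G] {d : G} (h : Concl G d)
    (S : Sylow 2 ↥(Subgroup.centralizer ({d} : Set G))) (A : Subgroup G)
    (hA : A = (Cfsg.thompsonSubgroupOf 2 (S : Subgroup ↥(Subgroup.centralizer ({d} : Set G)))).map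
      (Subgroup.centralizer ({d} : Set G)).subtype) :
    Cfsg.IsElementaryAbelian 2 A ∧ Nat.card A = 2 ^ 11 ∧ Set.ncard {x : G | x ∈ A ∧ IsConj d x} = 23 ∧
      ∀ x ∈ A, ∀ y ∈ A, IsConj d x → IsConj d y → ∃ n ∈ Subgroup.normalizer (A : Set G), n * x * n⁻¹ = y := by
  obtain ⟨h1, ⟨B, hBC, hBe, hBc⟩, h3⟩ := h
  revert S A hA
  set C := Subgroup.centralizer ({d} : Set G)
  intro S A hA
  have : Fact (Nat.Prime 2) := ⟨Nat.prime_two⟩
  -- a member inside the given Sylow subgroup
  obtain ⟨P, hP⟩ := ((IsPGroup.of_card hBc).of_equiv (Subgroup.subgroupOfEquivOfLe hBC).symm :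
    IsPGroup 2 (B.subgroupOf C)).exists_le_sylow
  obtain ⟨c, hc⟩ := MulAction.exists_smul_eq ↥C P S
  set m := MulAut.conj (c : G)
  set B' := B.map m.toMonoidHom
  set T := (S : Subgroup ↥C).map C.subtype
  have hB'e : Cfsg.IsElementaryAbelian 2 B' := elementary_map_equiv m hBe
  have hB'c : Nat.card B' = 2 ^ 11 := (Subgroup.card_map_of_injective m.injective).trans hBc
  have hB'T : B' ≤ T := by
    rintro _ ⟨x, hx, rfl⟩
    refine ⟨c * ⟨x, hBC hx⟩ * c⁻¹, ?_, rfl⟩
    show c * ⟨x, hBC hx⟩ * c⁻¹ ∈ (S : Subgroup ↥C)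
    rw [← hc]
    exact ⟨⟨x, hBC hx⟩, hP hx, rfl⟩
  have hTC : T ≤ C := Subgroup.map_subtype_le _
  have hT2 : IsPGroup 2 T := S.2.map _
  set SS := (S : Subgroup ↥C)
  let ι : ↥SS →* G := C.subtype.comp SS.subtype
  have hι : Function.Injective ι := C.subtype_injective.comp SS.subtype_injective
  have hrange : ι.range = T := by
    rw [MonoidHom.range_comp, Subgroup.range_subtype]
  have hel : ∀ D : Subgroup ↥SS, Cfsg.IsElementaryAbelian 2 D → Cfsg.IsElementaryAbelian 2 (D.map ι) := by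
    intro D hD
    refine ⟨⟨⟨fun x y => ?_⟩⟩, ?_⟩
    · obtain ⟨a, ha, ea⟩ := x.2
      obtain ⟨b, hb, eb⟩ := y.2
      refine Subtype.ext ?_
      rw [Subgroup.coe_mul, Subgroup.coe_mul, ← ea, ← eb, ← map_mul, ← map_mul]
      exact congrArg ι (congrArg Subtype.val (hD.1.is_comm.comm ⟨a, ha⟩ ⟨b, hb⟩))
    · rintro _ ⟨a, ha, rfl⟩
      rw [← map_pow, hD.2 a ha, map_one]
  set B₀ := B'.comap ι
  have hmap : B₀.map ι = B' := Subgroup.map_comap_eq_self (hrange ▸ hB'T)
  have hB₀e : Cfsg.IsElementaryAbelian 2 B₀ := by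
    refine ⟨⟨⟨fun x y => Subtype.ext (hι ?_)⟩⟩, fun x hx => hι ?_⟩
    · rw [Subgroup.coe_mul, Subgroup.coe_mul, map_mul, map_mul]
      exact congrArg Subtype.val (hB'e.1.is_comm.comm (⟨_, x.2⟩ : B') ⟨_, y.2⟩)
    · rw [map_pow, map_one]; exact hB'e.2 _ hx
  have hB₀c : Nat.card B₀ = 2 ^ 11 := by rw [← Subgroup.card_map_of_injective hι, hmap, hB'c]
  have hbound : ∀ D : Subgroup ↥SS, Cfsg.IsElementaryAbelian 2 D →
      Nat.card D ≤ 2 ^ 11 ∧ (Nat.card D = 2 ^ 11 → D.map ι = B') := by
    intro D hD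
    obtain ⟨a, b⟩ := h1 T hTC hT2 (D.map ι) B' (hrange ▸ Subgroup.map_le_range ι D) hB'T (hel D hD) hB'e
    rw [Subgroup.card_map_of_injective hι] at a b
    exact ⟨a, fun e => b e hB'c⟩
  have hmax : Cfsg.maxElementaryAbelianSubgroups 2 ↥SS = {B₀} := by
    ext D
    simp only [Cfsg.maxElementaryAbelianSubgroups, Set.mem_ofPred_eq, Set.mem_singleton_iff]
    constructor
    · rintro ⟨hD, hmax⟩
      have := hmax B₀ hB₀e
      rw [hB₀c] at this
      rw [← Subgroup.comap_map_eq_self_of_injective hι D, (hbound D hD).2 (le_antisymm (hbound D hD).1 this)]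
    · rintro rfl
      exact ⟨hB₀e, fun E hE => hB₀c ▸ (hbound E hE).1⟩
  have hA : A = B' := by
    rw [hA, Cfsg.thompsonSubgroupOf, Cfsg.thompsonSubgroup]
    show ((sSup (Cfsg.maxElementaryAbelianSubgroups 2 ↥SS)).map SS.subtype).map C.subtype = B'
    rw [hmax, sSup_singleton, Subgroup.map_map]
    exact hmap
  rw [hA]
  exact ⟨hB'e, hB'c, h3 B' (hB'T.trans hTC) hB'e hB'c⟩

end Cfsg.Agent.Fi22Cover
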